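import Groth.Agent.Lib.IndEtale.Crit
import Groth.Prelude.Def_PBC
import Mathlib.RingTheory.Etale.Weakly
import Mathlib.RingTheory.Flat.EquationalCriterion
import Mathlib.RingTheory.Smooth.NoetherianDescent

/-!
Basic closure properties of ind-etale algebras (`EtPBC.IsIndEtale`).
-/

set_option autoImplicit false

universe u

open TensorProduct

namespace Groth.Agent.Lib.IndEtale.Basic

open Crit

/-- The property of being etale, as an `AlgProp`. -/
abbrev etaleProp (A : Type u) [CommRing A] : AlgProp A :=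
  fun E _ _ => Algebra.Etale A E

/-- Factorisation through etale algebras. -/
abbrev FactorsEtale (A B : Type u) [CommRing A] [CommRing B] [Algebra A B] : Prop :=
  Factors (etaleProp A) B

lemma impliesFP (A : Type u) [CommRing A] : ImpliesFP (etaleProp A) :=
  fun _E _ _ (h : Algebra.Etale A _) => h.finitePresentation

lemma respectsAlgEquiv (A : Type u) [CommRing A] : RespectsAlgEquiv (etaleProp A) :=
  fun _E _E' _ _ _ _ e (h : Algebra.Etale A _) => have := h; Algebra.Etale.of_equiv e

variable {A B : Type u} [CommRing A] [CommRing B] [Algebra A B]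

theorem iff_factors : EtPBC.IsIndEtale A B ↔ FactorsEtale A B :=
  isInd_iff_factors (impliesFP A) (respectsAlgEquiv A) B

theorem of_factors (h : FactorsEtale A B) : EtPBC.IsIndEtale A B := iff_factors.mpr h

theorem factors (h : EtPBC.IsIndEtale A B) : FactorsEtale A B := iff_factors.mp h

theorem of_etale [Algebra.Etale A B] : EtPBC.IsIndEtale A B :=
  of_factors (Factors.of_prop (P := etaleProp A) ‹_›)

theorem of_algEquiv {B' : Type u} [CommRing B'] [Algebra A B'] (h : EtPBC.IsIndEtale A B)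
    (e : B ≃ₐ[A] B') : EtPBC.IsIndEtale A B' :=
  of_factors ((factors h).of_algEquiv e)

theorem baseChange (A' : Type u) [CommRing A'] [Algebra A A'] (h : EtPBC.IsIndEtale A B) :
    EtPBC.IsIndEtale A' (A' ⊗[A] B) :=
  IsInd.baseChange (P := etaleProp A) (P' := etaleProp A')
    (fun _E _ _ (hE : Algebra.Etale A _) => have := hE; inferInstance) h

/-! Weakly etale. -/

lemma exists_finset_mem_range (t : B ⊗[A] B) :
    ∃ s : Finset B, ∀ (E : Type u) [CommRing E] [Algebra A E] (v : E →ₐ[A] B),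
      (↑s ⊆ Set.range v) → ∃ t' : E ⊗[A] E, Algebra.TensorProduct.map v v t' = t := by
  classical
  induction t with
  | zero => exact ⟨∅, fun E _ _ v _ => ⟨0, map_zero _⟩⟩
  | tmul a b =>
    refine ⟨{a, b}, fun E _ _ v hv => ?_⟩
    obtain ⟨a', ha⟩ := hv (by simp : a ∈ (↑({a, b} : Finset B) : Set B))
    obtain ⟨b', hb⟩ := hv (by simp : b ∈ (↑({a, b} : Finset B) : Set B))
    exact ⟨a' ⊗ₜ b', by simp [ha, hb]⟩
  | add x y hx hy =>
    obtain ⟨s, hs⟩ := hx
    obtain ⟨t, ht⟩ := hy
    refine ⟨s ∪ t, fun E _ _ v hv => ?_⟩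
    obtain ⟨x', hx'⟩ := hs E v (fun z hz => hv (by simp at hz ⊢; exact Or.inl hz))
    obtain ⟨y', hy'⟩ := ht E v (fun z hz => hv (by simp at hz ⊢; exact Or.inr hz))
    exact ⟨x' + y', by simp [hx', hy']⟩

lemma exists_lift (h : FactorsEtale A B) (s : Finset B) :
    ∃ (E : Type u) (_ : CommRing E) (_ : Algebra A E), Algebra.Etale A E ∧
      ∃ v : E →ₐ[A] B, ↑s ⊆ Set.range v := by
  obtain ⟨E, _, _, hE, u, v, huv⟩ := h (MvPolynomial s A) inferInstance
    (MvPolynomial.aeval fun i => (i : B))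
  refine ⟨E, inferInstance, inferInstance, hE, v, fun b hb => ?_⟩
  exact ⟨u (MvPolynomial.X ⟨b, hb⟩), by simpa using congr($huv (MvPolynomial.X ⟨b, hb⟩))⟩

theorem flat (h : FactorsEtale A B) : Module.Flat A B := by
  classical
  refine Module.Flat.of_forall_isTrivialRelation fun {l f x} hfx => ?_
  let g : MvPolynomial (Fin l) A →ₐ[A] B := MvPolynomial.aeval x
  let r : MvPolynomial (Fin l) A := ∑ i, MvPolynomial.C (f i) * MvPolynomial.X i
  have hr : ∀ a ∈ Ideal.span {r}, g a = 0 := by
    intro a ha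
    obtain ⟨c, rfl⟩ := Ideal.mem_span_singleton.mp ha
    simp [g, r, ← Algebra.smul_def, hfx]
  have : Algebra.FinitePresentation A (MvPolynomial (Fin l) A ⧸ Ideal.span {r}) :=
    .quotient ⟨{r}, by simp⟩
  obtain ⟨E, _, _, hE, u, v, huv⟩ := h _ this (Ideal.Quotient.liftₐ _ g hr)
  have : Algebra.Etale A E := hE
  let xe : Fin l → E := fun i => u (Ideal.Quotient.mk _ (MvPolynomial.X i))
  have hxe : ∑ i, f i • xe i = 0 := by
    have : u (Ideal.Quotient.mk (Ideal.span {r}) r) = 0 := by
      rw [Ideal.Quotient.eq_zero_iff_mem.mpr (Ideal.mem_span_singleton_self r), map_zero]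
    rw [← this, map_sum (Ideal.Quotient.mk (Ideal.span {r})), map_sum u]
    refine Finset.sum_congr rfl fun i _ => ?_
    rw [map_mul, map_mul, Algebra.smul_def, ← MvPolynomial.algebraMap_eq,
      Ideal.Quotient.mk_algebraMap, AlgHom.commutes]
  obtain ⟨k, a, y, ha, hy⟩ := Module.Flat.isTrivialRelation_of_sum_smul_eq_zero hxe
  refine ⟨k, a, fun j => v (y j), fun i => ?_, hy⟩
  have hx : v (xe i) = x i := by
    exact (congr($huv (Ideal.Quotient.mk _ (MvPolynomial.X i)))).trans (MvPolynomial.aeval_X x i)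
  rw [← hx, ha i]
  simp

theorem flat_lmul (h : FactorsEtale A B) :
    (Algebra.TensorProduct.lmul' A (S := B)).toRingHom.Flat := by
  classical
  algebraize [(Algebra.TensorProduct.lmul' A (S := B)).toRingHom]
  refine Module.Flat.of_forall_isTrivialRelation fun {l f x} hfx => ?_
  choose s hs using fun i => exists_finset_mem_range (f i)
  obtain ⟨E₀, _, _, hE₀, v₀, hv₀⟩ := exists_lift h (Finset.univ.biUnion s ∪ Finset.univ.image x)
  have : Algebra.Etale A E₀ := hE₀
  choose f₀ hf₀ using fun i => hs i E₀ v₀ (fun z hz => hv₀ (by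
    simp only [Finset.coe_union, Set.mem_union, Finset.mem_coe, Finset.mem_biUnion,
      Finset.mem_univ, true_and]
    exact Or.inl ⟨i, hz⟩))
  choose x₀ hx₀ using fun i => hv₀ (show x i ∈ (↑(Finset.univ.biUnion s ∪ Finset.univ.image x) :
    Set B) by simp)
  let r : E₀ := ∑ i, Algebra.TensorProduct.lmul' A (f₀ i) * x₀ i
  have hcomp : ∀ t : E₀ ⊗[A] E₀, v₀ (Algebra.TensorProduct.lmul' A t) =
      Algebra.TensorProduct.lmul' A (Algebra.TensorProduct.map v₀ v₀ t) := fun t => by
    induction t <;> simp_all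
  have hr : ∀ a ∈ Ideal.span {r}, v₀ a = 0 := by
    intro a ha
    obtain ⟨c, rfl⟩ := Ideal.mem_span_singleton.mp ha
    have : v₀ r = 0 := by
      simp only [r, map_sum, map_mul, hcomp, hf₀, hx₀]
      exact hfx
    simp [this]
  have : Algebra.FinitePresentation A (E₀ ⧸ Ideal.span {r}) := .quotient ⟨{r}, by simp⟩
  obtain ⟨E, _, _, hE, u, v, huv⟩ := h _ this (Ideal.Quotient.liftₐ _ v₀ hr)
  have : Algebra.Etale A E := hE
  let w : E₀ →ₐ[A] E := u.comp (Ideal.Quotient.mkₐ A _)
  have hw : v.comp w = v₀ := by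
    rw [← AlgHom.comp_assoc, huv]
    ext z
    rfl
  have hcompw : ∀ t : E₀ ⊗[A] E₀, w (Algebra.TensorProduct.lmul' A t) =
      Algebra.TensorProduct.lmul' A (Algebra.TensorProduct.map w w t) := fun t => by
    induction t <;> simp_all
  have hflat := Algebra.WeaklyEtale.flat_lmul' A E
  letI : Algebra (E ⊗[A] E) E := (Algebra.TensorProduct.lmul' A (S := E)).toRingHom.toAlgebra
  haveI : Module.Flat (E ⊗[A] E) E := hflat
  have hrel : ∑ i, Algebra.TensorProduct.map w w (f₀ i) • w (x₀ i) = 0 := by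
    have : w r = 0 := by
      simp [w, Ideal.Quotient.eq_zero_iff_mem.mpr (Ideal.mem_span_singleton_self r)]
    rw [← this]
    simp only [r, map_sum, map_mul, hcompw]
    rfl
  obtain ⟨k, a, y, ha, hy⟩ := Module.Flat.isTrivialRelation_of_sum_smul_eq_zero hrel
  have hmm : ∀ t, Algebra.TensorProduct.map v v (Algebra.TensorProduct.map w w t) =
      Algebra.TensorProduct.map v₀ v₀ t := fun t => by
    induction t with
    | zero => simp
    | tmul a b => simp [← hw]
    | add a b ha hb => simp [ha, hb]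
  have hcompv : ∀ (t : E ⊗[A] E) (z : E), v (t • z) =
      Algebra.TensorProduct.map v v t • v z := fun t z => by
    change v (Algebra.TensorProduct.lmul' A t * z) =
      Algebra.TensorProduct.lmul' A (Algebra.TensorProduct.map v v t) * v z
    rw [map_mul]
    congr 1
    induction t <;> simp_all
  refine ⟨k, fun i j => Algebra.TensorProduct.map v v (a i j), fun j => v (y j),
    fun i => ?_, fun j => ?_⟩
  · have : v (w (x₀ i)) = x i := by rw [← hx₀ i, ← hw]; rfl
    beta_reduce at ha ⊢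
    rw [← this, ha i, map_sum]
    exact Finset.sum_congr rfl fun j _ => hcompv _ _
  · simp only [← hf₀, ← hmm, ← map_mul, ← map_sum, hy j, map_zero]

theorem weaklyEtale (h : EtPBC.IsIndEtale A B) : Algebra.WeaklyEtale A B where
  flat := flat (factors h)
  flat_lmul' := flat_lmul (factors h)

/-! Cancellation and composition. -/

section

variable {C : Type u} [CommRing C] [Algebra A C] [Algebra B C] [IsScalarTower A B C]

theorem factors_cancel (hB : FactorsEtale A B) (hC : FactorsEtale A C) : FactorsEtale B C := by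
  intro T _ _ hT g
  have := hT
  let P := Algebra.Presentation.ofFinitePresentation B T
  let B₀ : Subalgebra ℤ B := Algebra.adjoin ℤ P.coeffs
  have hB₀ : B₀.FG := ⟨P.finite_coeffs.toFinset, by simp [B₀]⟩
  have : P.HasCoeffs B₀ := ⟨by simp [B₀]⟩
  let T₀ := P.ModelOfHasCoeffs B₀
  let e : B ⊗[B₀] T₀ ≃ₐ[B] T := P.tensorModelOfHasCoeffsEquiv B₀
  obtain ⟨E, _, _, hE, v, φ, hφ⟩ := hB.exists_lift_subalgebra B₀ hB₀
  have : Algebra.Etale A E := hE
  letI : Algebra B₀ E := φ.toAlgebra
  letI : Algebra E B := v.toRingHom.toAlgebra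
  letI : Algebra E C := ((algebraMap B C).comp v.toRingHom).toAlgebra
  haveI : IsScalarTower E B C := .of_algebraMap_eq fun _ => rfl
  haveI : IsScalarTower A E B := .of_algebraMap_eq fun a => (v.commutes a).symm
  haveI : IsScalarTower A E C := .of_algebraMap_eq fun a => by
    change algebraMap A C a = algebraMap B C (v (algebraMap A E a))
    rw [v.commutes, ← IsScalarTower.algebraMap_apply]
  haveI : IsScalarTower B₀ E B := .of_algebraMap_eq fun b => (hφ b).symm
  haveI : IsScalarTower B₀ E C := .of_algebraMap_eq fun b => by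
    change algebraMap B C (b : B) = algebraMap B C (v (φ b))
    rw [hφ]
  let g₀ : T₀ →ₐ[B₀] C :=
    ((g.comp e.toAlgHom).restrictScalars B₀).comp Algebra.TensorProduct.includeRight
  have : Algebra.FinitePresentation A (E ⊗[B₀] T₀) :=
    Algebra.FinitePresentation.trans A E (E ⊗[B₀] T₀)
  let g₁ : E ⊗[B₀] T₀ →ₐ[E] C :=
    Algebra.TensorProduct.lift (Algebra.ofId E C) g₀ fun _ _ => Commute.all _ _
  obtain ⟨G, _, _, hG, u, w, huw⟩ := hC (E ⊗[B₀] T₀) this (g₁.restrictScalars A)
  have : Algebra.Etale A G := hG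
  letI : Algebra E G := (u.toRingHom.comp Algebra.TensorProduct.includeLeftRingHom).toAlgebra
  haveI : IsScalarTower A E G := .of_algebraMap_eq fun a => (u.commutes a).symm
  letI : Algebra B₀ G := ((algebraMap E G).comp φ).toAlgebra
  haveI : IsScalarTower B₀ E G := .of_algebraMap_eq fun _ => rfl
  have hEG : Algebra.Etale E G := Algebra.Etale.of_restrictScalars A E G
  have hw : ∀ z, w (u z) = g₁ z := fun z => congr($huw z)
  let wE : G →ₐ[E] C :=
    { w.toRingHom with
      commutes' := fun x => (hw _).trans (g₁.commutes x) }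
  let w' : B ⊗[E] G →ₐ[B] C :=
    Algebra.TensorProduct.lift (Algebra.ofId B C) wE fun _ _ => Commute.all _ _
  let uT : T₀ →ₐ[B₀] B ⊗[E] G :=
    { (Algebra.TensorProduct.includeRight : G →ₐ[E] B ⊗[E] G).toRingHom.comp
        (u.toRingHom.comp (Algebra.TensorProduct.includeRight : T₀ →ₐ[B₀] E ⊗[B₀] T₀).toRingHom) with
      commutes' := fun b => by
        simp only [RingHom.toMonoidHom_eq_coe, OneHom.toFun_eq_coe, MonoidHom.toOneHom_coe,
          MonoidHom.coe_coe, RingHom.coe_comp, Function.comp_apply, AlgHom.toRingHom_eq_coe,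
          RingHom.coe_coe, AlgHom.commutes]
        change (1 : B) ⊗ₜ[E] u (φ b ⊗ₜ 1) = (b : B) ⊗ₜ 1
        rw [show u (φ b ⊗ₜ 1) = algebraMap E G (φ b) from rfl,
          Algebra.algebraMap_eq_smul_one, ← TensorProduct.smul_tmul, Algebra.smul_def, mul_one]
        exact congr_arg (· ⊗ₜ[E] (1 : G)) (hφ b) }
  let u' : B ⊗[B₀] T₀ →ₐ[B] B ⊗[E] G :=
    Algebra.TensorProduct.lift (Algebra.ofId B _) uT fun _ _ => Commute.all _ _
  refine ⟨B ⊗[E] G, inferInstance, inferInstance, (inferInstance : Algebra.Etale B (B ⊗[E] G)),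
    u'.comp e.symm.toAlgHom, w', ?_⟩
  have key : ∀ t : T₀, w' (uT t) = g (e (1 ⊗ₜ t)) := fun t => by
    change w' ((1 : B) ⊗ₜ[E] u (1 ⊗ₜ t)) = _
    simp only [w', Algebra.TensorProduct.lift_tmul, map_one, one_mul]
    refine (hw _).trans ?_
    simp only [g₁, g₀, Algebra.TensorProduct.lift_tmul, map_one, one_mul]
    rfl
  refine AlgHom.ext fun z => ?_
  obtain ⟨z, rfl⟩ := e.surjective z
  simp only [AlgHom.coe_comp, AlgEquiv.coe_toAlgHom, Function.comp_apply, AlgEquiv.symm_apply_apply]
  induction z with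
  | zero => simp
  | tmul b t =>
    have hb : e (b ⊗ₜ[B₀] t) = b • e (1 ⊗ₜ t) := by
      rw [← map_smul, TensorProduct.smul_tmul', smul_eq_mul, mul_one]
    simp [u', key, hb, Algebra.smul_def]
    exact congr_arg (· * _) (w'.commutes b)
  | add x y hx hy => simp [hx, hy]

theorem cancel (hB : EtPBC.IsIndEtale A B) (hC : EtPBC.IsIndEtale A C) :
    EtPBC.IsIndEtale B C :=
  of_factors (factors_cancel (factors hB) (factors hC))

theorem trans (hB : EtPBC.IsIndEtale A B) (hC : EtPBC.IsIndEtale B C) :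
    EtPBC.IsIndEtale A C := by
  refine of_factors ?_
  intro T _ _ hT g
  have := hT
  obtain ⟨F, _, _, hF, u, v, huv⟩ := factors hC (B ⊗[A] T) inferInstance
    (Algebra.TensorProduct.lift (Algebra.ofId B C) g fun _ _ => Commute.all _ _)
  have : Algebra.Etale B F := hF
  obtain ⟨B₀, F₀, _, _, hB₀, _, ⟨e⟩⟩ := Algebra.Etale.exists_subalgebra_fg (R := ℤ) (A := B) (B := F)
  obtain ⟨E, _, _, hE, vB, φ, hφ⟩ := (factors hB).exists_lift_subalgebra B₀ hB₀
  have : Algebra.Etale A E := hE
  letI : Algebra B₀ E := φ.toAlgebra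
  let F₁ := E ⊗[B₀] F₀
  have : Algebra.Etale A F₁ := Algebra.Etale.comp A E F₁
  letI : Algebra E B := vB.toRingHom.toAlgebra
  haveI : IsScalarTower A E B := .of_algebraMap_eq fun a => (vB.commutes a).symm
  have hFB : FactorsEtale F₁ (F₁ ⊗[E] B) :=
    factors (baseChange F₁ (cancel (of_etale (A := A) (B := E)) hB))
  -- the map `B ⊗[B₀] F₀ → F₁ ⊗[E] B`
  let ιF : F₀ →ₐ[B₀] F₁ ⊗[E] B :=
    { (Algebra.TensorProduct.includeLeftRingHom : F₁ →+* F₁ ⊗[E] B).comp
        (Algebra.TensorProduct.includeRight : F₀ →ₐ[B₀] F₁).toRingHom with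
      commutes' := fun b => by
        change ((1 : E) ⊗ₜ[B₀] algebraMap B₀ F₀ b) ⊗ₜ[E] (1 : B) =
          (algebraMap B₀ F₁ b) ⊗ₜ[E] (1 : B)
        rw [← Algebra.TensorProduct.includeRight_apply, AlgHom.commutes] }
  let ιB : B →ₐ[B₀] F₁ ⊗[E] B :=
    { (Algebra.TensorProduct.includeRight : B →ₐ[E] F₁ ⊗[E] B).toRingHom with
      commutes' := fun b => by
        change (1 : F₁) ⊗ₜ[E] (b : B) = (algebraMap E F₁ (φ b)) ⊗ₜ[E] (1 : B)
        rw [Algebra.algebraMap_eq_smul_one, TensorProduct.smul_tmul,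
          ← Algebra.algebraMap_eq_smul_one]
        exact congr_arg ((1 : F₁) ⊗ₜ[E] ·) (hφ b).symm }
  let ι : B ⊗[B₀] F₀ →ₐ[B₀] F₁ ⊗[E] B :=
    Algebra.TensorProduct.lift ιB ιF fun _ _ => Commute.all _ _
  have hιA : ∀ a, ι (algebraMap A (B ⊗[B₀] F₀) a) = algebraMap A (F₁ ⊗[E] B) a := fun a => by
    rw [Algebra.TensorProduct.algebraMap_apply]
    erw [Algebra.TensorProduct.lift_tmul, map_one, mul_one]
    change (1 : F₁) ⊗ₜ[E] algebraMap A B a = _
    rw [Algebra.TensorProduct.algebraMap_apply,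
      IsScalarTower.algebraMap_apply A E F₁, IsScalarTower.algebraMap_apply A E B,
      Algebra.algebraMap_eq_smul_one, Algebra.algebraMap_eq_smul_one (A := F₁),
      TensorProduct.smul_tmul]
  let h : T →ₐ[A] F₁ ⊗[E] B :=
    { ι.toRingHom.comp ((e.toAlgHom.comp u).toRingHom.comp
        (Algebra.TensorProduct.includeRight : T →ₐ[A] B ⊗[A] T).toRingHom) with
      commutes' := fun a => by
        change ι (e (u ((1 : B) ⊗ₜ[A] algebraMap A T a))) = _
        rw [← Algebra.TensorProduct.includeRight_apply, AlgHom.commutes,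
          IsScalarTower.algebraMap_apply A B (B ⊗[A] T), AlgHom.commutes, AlgEquiv.commutes,
          ← IsScalarTower.algebraMap_apply]
        exact hιA a }
  obtain ⟨G, _, _, hG, u₂, v₂, huv₂⟩ := hFB (F₁ ⊗[A] T) inferInstance
    (Algebra.TensorProduct.lift (Algebra.ofId F₁ _) h fun _ _ => Commute.all _ _)
  have : Algebra.Etale F₁ G := hG
  letI : Algebra A G := ((algebraMap F₁ G).comp (algebraMap A F₁)).toAlgebra
  haveI : IsScalarTower A F₁ G := .of_algebraMap_eq fun _ => rfl
  -- the map `F₁ ⊗[E] B → C`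
  letI : Algebra E C := ((algebraMap B C).comp vB.toRingHom).toAlgebra
  haveI : IsScalarTower B₀ E C := .of_algebraMap_eq fun b => by
    change algebraMap B C (b : B) = algebraMap B C (vB (φ b))
    rw [hφ]
  let kF₀ : F₀ →ₐ[B₀] C :=
    ((v.comp e.symm.toAlgHom).restrictScalars B₀).comp Algebra.TensorProduct.includeRight
  let k₁ : F₁ →ₐ[E] C :=
    Algebra.TensorProduct.lift (Algebra.ofId E C) kF₀ fun _ _ => Commute.all _ _
  haveI : IsScalarTower E B C := .of_algebraMap_eq fun _ => rfl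
  let k : F₁ ⊗[E] B →ₐ[E] C :=
    Algebra.TensorProduct.lift k₁ (IsScalarTower.toAlgHom E B C) fun _ _ => Commute.all _ _
  have hk : ∀ z : B ⊗[B₀] F₀, k (ι z) = v (e.symm z) := fun z => by
    induction z with
    | zero => simp
    | tmul b f =>
      have hb : b ⊗ₜ[B₀] f = b • ((1 : B) ⊗ₜ[B₀] f) := by
        rw [TensorProduct.smul_tmul', smul_eq_mul, mul_one]
      conv_rhs => rw [hb, map_smul, map_smul, Algebra.smul_def]
      erw [Algebra.TensorProduct.lift_tmul, map_mul]
      refine congr_arg₂ (· * ·) ?_ ?_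
      · change k ((1 : F₁) ⊗ₜ[E] b) = _
        simp [k]
      · change k (((1 : E) ⊗ₜ[B₀] f) ⊗ₜ[E] (1 : B)) = _
        simp only [k, k₁, kF₀, Algebra.TensorProduct.lift_tmul, map_one, mul_one]
        erw [Algebra.TensorProduct.lift_tmul, map_one, one_mul]
        rfl
    | add x y hx hy => simp [hx, hy]
  haveI : IsScalarTower A E C := .of_algebraMap_eq fun a => by
    change algebraMap A C a = algebraMap B C (vB (algebraMap A E a))
    rw [vB.commutes, ← IsScalarTower.algebraMap_apply]
  refine ⟨G, inferInstance, inferInstance, Algebra.Etale.comp A F₁ G,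
    (u₂.restrictScalars A).comp Algebra.TensorProduct.includeRight,
    (k.restrictScalars A).comp (v₂.restrictScalars A), AlgHom.ext fun t => ?_⟩
  have h2 := congr($huv₂ (1 ⊗ₜ t))
  simp only [AlgHom.coe_comp, Function.comp_apply, Algebra.TensorProduct.lift_tmul, map_one,
    one_mul] at h2
  simp only [AlgHom.coe_comp, AlgHom.coe_restrictScalars', Function.comp_apply,
    Algebra.TensorProduct.includeRight_apply, h2]
  change k (ι (e (u (1 ⊗ₜ t)))) = _
  rw [hk, AlgEquiv.symm_apply_apply]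
  simpa using congr($huv (1 ⊗ₜ t))

end

end Groth.Agent.Lib.IndEtale.Basic
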