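import Groth.Agent.Lib.IndEtale.Basic
import Mathlib.RingTheory.RingHom.Etale
import Mathlib.RingTheory.LocalIso

/-!
Ind-Zariski algebras (`EtPBC.IsIndZariski`), localizations.
-/

set_option autoImplicit false

universe u

open TensorProduct

namespace Groth.Agent.Lib.IndEtale.Zariski

open Crit

/-- The property of being a local isomorphism. -/
abbrev zarProp (A : Type u) [CommRing A] : AlgProp A :=
  fun E _ _ => Algebra.IsLocalIso A E

/-- Factorisation through local isomorphisms. -/
abbrev FactorsZar (A B : Type u) [CommRing A] [CommRing B] [Algebra A B] : Prop :=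
  Factors (zarProp A) B

lemma etale_of_isLocalIso (A E : Type u) [CommRing A] [CommRing E] [Algebra A E]
    [Algebra.IsLocalIso A E] : Algebra.Etale A E := by
  rw [← RingHom.etale_algebraMap]
  refine RingHom.Etale.ofLocalizationSpanTarget (algebraMap A E)
    {g : E | Algebra.IsStandardOpenImmersion A (Localization.Away g)}
    (Algebra.IsLocalIso.span_isStandardOpenImmersion_eq_top A E) fun r => ?_
  have : Algebra.IsStandardOpenImmersion A (Localization.Away r.1) := r.2
  obtain ⟨a, _⟩ := Algebra.IsStandardOpenImmersion.exists_away A (Localization.Away r.1)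
  exact RingHom.etale_algebraMap.mpr (Algebra.Etale.of_isLocalizationAway a)

variable (A : Type u) [CommRing A]

lemma impliesFP : ImpliesFP (zarProp A) :=
  fun E _ _ (h : Algebra.IsLocalIso A E) => (etale_of_isLocalIso A E).finitePresentation

lemma respectsAlgEquiv : RespectsAlgEquiv (zarProp A) :=
  fun _E _E' _ _ _ _ e (h : Algebra.IsLocalIso A _) => Algebra.IsLocalIso.of_algEquiv e

variable {A} {B : Type u} [CommRing B] [Algebra A B]

theorem iff_factors : EtPBC.IsIndZariski A B ↔ FactorsZar A B :=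
  isInd_iff_factors (impliesFP A) (respectsAlgEquiv A) B

theorem of_factors (h : FactorsZar A B) : EtPBC.IsIndZariski A B := iff_factors.mpr h

theorem factors (h : EtPBC.IsIndZariski A B) : FactorsZar A B := iff_factors.mp h

theorem factorsEtale (h : FactorsZar A B) : Basic.FactorsEtale A B :=
  h.mono fun E _ _ (_ : Algebra.IsLocalIso A E) => etale_of_isLocalIso A E

theorem flat (h : FactorsZar A B) : Module.Flat A B := Basic.flat (factorsEtale h)

theorem isIndEtale (h : EtPBC.IsIndZariski A B) : EtPBC.IsIndEtale A B :=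
  Basic.of_factors (factorsEtale (factors h))

theorem baseChange (A' : Type u) [CommRing A'] [Algebra A A'] (h : EtPBC.IsIndZariski A B) :
    EtPBC.IsIndZariski A' (A' ⊗[A] B) :=
  IsInd.baseChange (P := zarProp A) (P' := zarProp A')
    (fun _E _ _ (_ : Algebra.IsLocalIso A _) => inferInstance) h

/-- `P` is stable under localization at an element. -/
def StableAway (P : AlgProp A) : Prop :=
  ∀ ⦃E : Type u⦄ [CommRing E] [Algebra A E] (e : E), P E → P (Localization.Away e)

lemma stableAway_zar : StableAway (zarProp A) := fun E _ _ e (_ : Algebra.IsLocalIso A E) =>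
  Algebra.IsLocalIso.trans A E (Localization.Away e)

lemma stableAway_etale : StableAway (Basic.etaleProp A) := fun E _ _ e (_ : Algebra.Etale A E) =>
  (inferInstance : Algebra.Etale A (Localization.Away e))

/-- Factorisations pass to localizations. -/
theorem factors_localization {P : AlgProp A} (hfp : ImpliesFP P) (hst : StableAway P)
    (hB : Factors P B) (S : Submonoid B) (L : Type u) [CommRing L] [Algebra B L]
    [IsLocalization S L] [Algebra A L] [IsScalarTower A B L] : Factors P L := by
  classical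
  intro C _ _ hC g
  obtain ⟨n, π, hπ, hker⟩ := hC.out
  obtain ⟨⟨s, hs⟩, hint⟩ :=
    IsLocalization.exist_integer_multiples_of_finite S (fun i => g (π (MvPolynomial.X i)))
  choose b hb using fun i => hint i
  obtain ⟨E, _, _, hE, u₀, v, huv₀⟩ := hB (MvPolynomial (Option (Fin n)) A) inferInstance
    (MvPolynomial.aeval fun o => o.elim s b)
  let e : E := u₀ (MvPolynomial.X none)
  have hve : v e = s := by simpa [e] using congr($huv₀ (MvPolynomial.X none))
  have hvb : ∀ i, v (u₀ (MvPolynomial.X (some i))) = b i := fun i => by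
    simpa using congr($huv₀ (MvPolynomial.X (some i)))
  have hu : IsUnit (((IsScalarTower.toAlgHom A B L).comp v) e) := by
    change IsUnit (algebraMap B L (v e))
    rw [hve]
    exact IsLocalization.map_units L ⟨s, hs⟩
  let w : Localization.Away e →ₐ[A] L :=
    IsLocalization.liftAlgHom (M := Submonoid.powers e) (f := (IsScalarTower.toAlgHom A B L).comp v)
      (fun y => by
        obtain ⟨k, hk⟩ := y.2
        rw [← hk, map_pow]
        exact hu.pow k)
  have hw : ∀ z, w (algebraMap E _ z) = algebraMap B L (v z) := fun z => by simp [w]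
  let lf : MvPolynomial (Fin n) A →ₐ[A] Localization.Away e :=
    MvPolynomial.aeval fun i =>
      algebraMap E _ (u₀ (MvPolynomial.X (some i))) * IsLocalization.Away.invSelf e
  have hlf : w.comp lf = g.comp π := by
    refine MvPolynomial.algHom_ext fun i => ?_
    have h1 : algebraMap B L s * g (π (MvPolynomial.X i)) = algebraMap B L (b i) := by
      rw [hb i, Algebra.smul_def]
    have h2 : algebraMap B L s * w (IsLocalization.Away.invSelf e) = 1 := by
      rw [← hve, ← hw, ← map_mul, IsLocalization.Away.mul_invSelf, map_one]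
    simp only [lf, AlgHom.coe_comp, Function.comp_apply, MvPolynomial.aeval_X, map_mul, hw, hvb]
    rw [← h1, mul_right_comm, h2, one_mul]
  obtain ⟨F, hF⟩ := hker
  have hq : ∀ f ∈ F, ∃ (p : E) (k : ℕ) (t : B),
      t ∈ S ∧ lf f * algebraMap E _ e ^ k = algebraMap E _ p ∧ t * v p = 0 := by
    intro f hf
    obtain ⟨k, p, hp⟩ := IsLocalization.Away.surj e (lf f)
    have hfk : π f = 0 := RingHom.mem_ker.mp (hF ▸ Ideal.subset_span hf)
    have hz : algebraMap B L (v p) = 0 := by
      rw [← hw, ← hp, map_mul, ← AlgHom.comp_apply, hlf, AlgHom.comp_apply, hfk, map_zero, zero_mul]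
    obtain ⟨t, ht⟩ := (IsLocalization.map_eq_zero_iff S L _).mp hz
    exact ⟨p, k, t, t.2, hp, ht⟩
  choose! p k t ht hp hpt using hq
  obtain ⟨E₁, _, _, hE₁, v₁', v₁, hv₁⟩ := hB
    (E ⊗[A] MvPolynomial F A)
    (have := hfp hE
     Algebra.FinitePresentation.trans A E (E ⊗[A] MvPolynomial F A))
    (Algebra.TensorProduct.lift v (MvPolynomial.aeval fun f => t f.1) fun _ _ => Commute.all _ _)
  -- kill the products `t f * p f`
  let ι₀ : E →ₐ[A] E₁ := v₁'.comp Algebra.TensorProduct.includeLeft
  let τ : F → E₁ := fun f => v₁' (1 ⊗ₜ MvPolynomial.X f)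
  have hι₀ : ∀ z, v₁ (ι₀ z) = v z := fun z => by simpa [ι₀] using congr($hv₁ (z ⊗ₜ 1))
  have hτ : ∀ f, v₁ (τ f) = t f.1 := fun f => by
    simpa [τ] using congr($hv₁ (1 ⊗ₜ MvPolynomial.X f))
  let I : Ideal E₁ := Ideal.span
    ((F.attach.image fun f => τ f * ι₀ (p f.1) : Finset E₁) : Set E₁)
  have hI : ∀ a ∈ I, v₁ a = 0 := by
    intro a ha
    refine (Ideal.span_le (I := RingHom.ker v₁)).mpr ?_ ha
    intro z hz
    simp only [Finset.coe_image, Set.mem_image] at hz
    obtain ⟨f, -, rfl⟩ := hz
    simp [hτ, hι₀, hpt f.1 f.2]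
  have := hfp hE₁
  have : Algebra.FinitePresentation A (E₁ ⧸ I) := .quotient ⟨_, rfl⟩
  obtain ⟨E₂, _, _, hE₂, u₂, v₂, huv₂⟩ := hB (E₁ ⧸ I) this (Ideal.Quotient.liftₐ I v₁ hI)
  let ι : E →ₐ[A] E₂ := (u₂.comp (Ideal.Quotient.mkₐ A I)).comp ι₀
  have hι : ∀ z, v₂ (ι z) = v z := fun z => by
    refine (congr($huv₂ (Ideal.Quotient.mk I (ι₀ z)))).trans ?_
    exact hι₀ z
  let T : E₂ := ∏ f : F, u₂ (Ideal.Quotient.mk I (τ f))
  have hvT : v₂ T ∈ S := by
    rw [map_prod]
    refine prod_mem fun f _ => ?_
    have : v₂ (u₂ (Ideal.Quotient.mk I (τ f))) = t f.1 :=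
      (congr($huv₂ (Ideal.Quotient.mk I (τ f)))).trans (hτ f)
    rw [this]
    exact ht f.1 f.2
  let e₂ : E₂ := ι e * T
  have he₂u : IsUnit (algebraMap E₂ (Localization.Away e₂) (ι e * T)) :=
    IsLocalization.Away.algebraMap_isUnit e₂
  rw [map_mul, IsUnit.mul_iff] at he₂u
  let j : Localization.Away e →ₐ[A] Localization.Away e₂ :=
    IsLocalization.liftAlgHom (M := Submonoid.powers e)
      (f := (IsScalarTower.toAlgHom A E₂ (Localization.Away e₂)).comp ι)
      (fun y => by
        obtain ⟨k, hk⟩ := y.2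
        rw [← hk, map_pow]
        exact he₂u.1.pow k)
  have hj : ∀ z, j (algebraMap E _ z) = algebraMap E₂ _ (ι z) := fun z => by simp [j]
  have hkill : ∀ f ∈ F, j (lf f) = 0 := by
    intro f hf
    have h0 : u₂ (Ideal.Quotient.mk I (τ ⟨f, hf⟩)) * ι (p f) = 0 := by
      simp only [ι, AlgHom.coe_comp, Function.comp_apply, Ideal.Quotient.mkₐ_eq_mk, ← map_mul]
      rw [Ideal.Quotient.eq_zero_iff_mem.mpr (Ideal.subset_span ?_), map_zero]
      simp only [Finset.coe_image, Set.mem_image]
      exact ⟨⟨f, hf⟩, Finset.mem_attach _ _, rfl⟩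
    have h0' : algebraMap E₂ (Localization.Away e₂) (T * ι (p f)) = 0 := by
      rw [show T = u₂ (Ideal.Quotient.mk I (τ ⟨f, hf⟩)) *
        ∏ g ∈ Finset.univ.erase ⟨f, hf⟩, u₂ (Ideal.Quotient.mk I (τ g)) from
          (Finset.mul_prod_erase _ _ (Finset.mem_univ _)).symm, mul_right_comm, h0, zero_mul,
        map_zero]
    rw [map_mul, he₂u.2.mul_right_eq_zero, ← hj, ← hp f hf, map_mul, map_pow, hj] at h0'
    exact (he₂u.1.pow _).mul_left_eq_zero.mp h0'
  let u : C →ₐ[A] Localization.Away e₂ :=
    AlgHom.liftOfSurjective π hπ (j.comp lf) (by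
      rw [← hF, Ideal.span_le]
      exact hkill)
  let v' : Localization.Away e₂ →ₐ[A] L :=
    IsLocalization.liftAlgHom (M := Submonoid.powers e₂)
      (f := (IsScalarTower.toAlgHom A B L).comp v₂)
      (fun y => by
        obtain ⟨k, hk⟩ := y.2
        rw [← hk, map_pow]
        refine IsUnit.pow k ?_
        change IsUnit (algebraMap B L (v₂ (ι e * T)))
        exact IsLocalization.map_units L
          (⟨_, by rw [map_mul, hι, hve]; exact S.mul_mem hs hvT⟩ : S))
  refine ⟨Localization.Away e₂, inferInstance, inferInstance, hst e₂ hE₂, u, v',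
    (AlgHom.cancel_right hπ).mp ?_⟩
  have hv'j : v'.comp j = w := by
    refine IsLocalization.algHom_ext (Submonoid.powers e) (AlgHom.ext fun z => ?_)
    change v' (j (algebraMap E _ z)) = w (algebraMap E _ z)
    rw [hj, hw]
    simp [v', hι]
  rw [AlgHom.comp_assoc, AlgHom.liftOfSurjective_comp π hπ, ← AlgHom.comp_assoc, hv'j, hlf]

end Groth.Agent.Lib.IndEtale.Zariski
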