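import Groth.Agent.Lib.IndEtale.Basic
import Groth.Prelude.Def_ProEtW
import Mathlib.RingTheory.Unramified.LocalRing
import Mathlib.RingTheory.Algebraic.Integral
import Mathlib.RingTheory.Localization.Integral
import Mathlib.RingTheory.LocalRing.ResidueField.Ideal

/-!
Algebraic residue field extensions, elementwise.
-/

set_option autoImplicit false

universe u

open TensorProduct Polynomial

namespace Groth.Agent.Lib.IndEtale.AlgRes

/-- `x` is algebraic in `B ⧸ q` over the image of `A`. -/
def AlgAt (A : Type u) {B : Type u} [CommRing A] [CommRing B] [Algebra A B] (q : Ideal B) (x : B) :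
    Prop :=
  ∃ f : A[X], f.map (Ideal.Quotient.mk (q.comap (algebraMap A B))) ≠ 0 ∧ aeval x f ∈ q

variable {A B : Type u} [CommRing A] [CommRing B] [Algebra A B]

lemma iff_isAlgebraic (q : Ideal B) (x : B) :
    AlgAt A q x ↔ IsAlgebraic (A ⧸ q.comap (algebraMap A B)) (Ideal.Quotient.mk q x) := by
  have key : ∀ f : A[X], aeval (Ideal.Quotient.mk q x)
      (f.map (Ideal.Quotient.mk (q.comap (algebraMap A B)))) = Ideal.Quotient.mk q (aeval x f) := by
    intro f
    rw [aeval_def, eval₂_map, aeval_def, hom_eval₂]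
    rfl
  constructor
  · rintro ⟨f, hf, hfx⟩
    exact ⟨_, hf, by rw [key, Ideal.Quotient.eq_zero_iff_mem.mpr hfx]⟩
  · rintro ⟨g, hg, hgx⟩
    obtain ⟨f, rfl⟩ := map_surjective _ Ideal.Quotient.mk_surjective g
    exact ⟨f, hg, Ideal.Quotient.eq_zero_iff_mem.mp ((key f).symm.trans hgx)⟩

theorem iff_forall : ProEtW.AlgebraicResidueExtensions A B ↔
    ∀ (q : Ideal B) [q.IsPrime] (x : B), AlgAt A q x := by
  constructor
  · intro h q _ x
    exact (iff_isAlgebraic q x).mpr ((h q).isAlgebraic _)
  · intro h q _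
    refine ⟨fun y => ?_⟩
    obtain ⟨x, rfl⟩ := Ideal.Quotient.mk_surjective y
    exact (iff_isAlgebraic q x).mp (h q x)

lemma of_etale [Algebra.Etale A B] (q : Ideal B) [q.IsPrime] (x : B) : AlgAt A q x := by
  let p := q.under A
  have : q.LiesOver p := ⟨rfl⟩
  have hpq : p = q.comap (algebraMap A B) := rfl
  letI := Localization.AtPrime.algebraOfLiesOver p q
  have : Algebra.IsAlgebraic p.ResidueField q.ResidueField := inferInstance
  have halg : IsAlgebraic p.ResidueField (algebraMap B q.ResidueField x) :=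
    Algebra.IsAlgebraic.isAlgebraic _
  letI : Algebra (A ⧸ p) q.ResidueField :=
    ((algebraMap p.ResidueField q.ResidueField).comp (algebraMap (A ⧸ p) p.ResidueField)).toAlgebra
  haveI : IsScalarTower (A ⧸ p) p.ResidueField q.ResidueField := .of_algebraMap_eq fun _ => rfl
  obtain ⟨g, hg, hgx⟩ := (IsFractionRing.isAlgebraic_iff (A ⧸ p) p.ResidueField q.ResidueField).mpr halg
  obtain ⟨f, rfl⟩ := map_surjective _ (Ideal.Quotient.mk_surjective (I := p)) g
  refine ⟨f, hg, ?_⟩
  rw [← Ideal.algebraMap_residueField_eq_zero (I := q), aeval_def, hom_eval₂]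
  rw [aeval_def, eval₂_map] at hgx
  refine Eq.trans (congrArg (fun r => eval₂ r (algebraMap B q.ResidueField x) f)
    (RingHom.ext fun a => ?_)) hgx
  change _ = algebraMap p.ResidueField q.ResidueField (algebraMap (A ⧸ p) p.ResidueField (algebraMap A (A ⧸ p) a))
  rw [← IsScalarTower.algebraMap_apply A (A ⧸ p) p.ResidueField,
    ← IsScalarTower.algebraMap_apply A p.ResidueField,
    RingHom.comp_apply, ← IsScalarTower.algebraMap_apply A B q.ResidueField]

theorem of_factorsEtale (h : Basic.FactorsEtale A B) : ProEtW.AlgebraicResidueExtensions A B := by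
  refine iff_forall.mpr fun q _ x => ?_
  obtain ⟨E, _, _, hE, v, hv⟩ := Basic.exists_lift h {x}
  obtain ⟨e, rfl⟩ := hv (Finset.mem_coe.mpr (Finset.mem_singleton_self x))
  obtain ⟨f, hf, hfe⟩ := of_etale (A := A) (q.comap v) e
  refine ⟨f, ?_, ?_⟩
  · have e0 : q.comap (algebraMap A B) = (q.comap v).comap (algebraMap A E) := by
      ext a; simp
    refine fun h0 => hf (Polynomial.ext fun i => ?_)
    have h1 := congrArg (fun r => r.coeff i) h0
    simp only [coeff_map, coeff_zero, Ideal.Quotient.eq_zero_iff_mem] at h1 ⊢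
    exact e0 ▸ h1
  · rw [aeval_algHom_apply]
    exact hfe

/-- Algebraic residue extensions are stable under base change. -/
theorem baseChange (C : Type u) [CommRing C] [Algebra A C]
    (h : ProEtW.AlgebraicResidueExtensions A B) :
    letI : Algebra C (B ⊗[A] C) :=
      (Algebra.TensorProduct.includeRight (R := A) (A := B) (B := C)).toRingHom.toAlgebra
    ProEtW.AlgebraicResidueExtensions C (B ⊗[A] C) := by
  letI : Algebra C (B ⊗[A] C) :=
    (Algebra.TensorProduct.includeRight (R := A) (A := B) (B := C)).toRingHom.toAlgebra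
  refine iff_forall.mpr fun q _ x => (iff_isAlgebraic q x).mpr ?_
  let c := q.comap (algebraMap C (B ⊗[A] C))
  let S := Subalgebra.algebraicClosure (C ⧸ c) ((B ⊗[A] C) ⧸ q)
  suffices hS : Ideal.Quotient.mk q x ∈ S from hS
  induction x with
  | zero => rw [map_zero]; exact S.zero_mem
  | add y z hy hz => rw [map_add]; exact S.add_mem hy hz
  | tmul b y =>
    rw [show b ⊗ₜ[A] y = (b ⊗ₜ[A] (1 : C)) * algebraMap C (B ⊗[A] C) y by
      simp [RingHom.algebraMap_toAlgebra], map_mul]
    refine S.mul_mem ?_ (S.algebraMap_mem (Ideal.Quotient.mk c y))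
    refine (iff_isAlgebraic q _).mp ?_
    let ι : B →ₐ[A] B ⊗[A] C := Algebra.TensorProduct.includeLeft
    obtain ⟨f, hf, hfb⟩ := iff_forall.mp h (q.comap ι) b
    refine ⟨f.map (algebraMap A C), fun h0 => hf (Polynomial.ext fun i => ?_), ?_⟩
    · have := congrArg (fun r => r.coeff i) h0
      simp only [coeff_map, coeff_zero, Ideal.Quotient.eq_zero_iff_mem,
        Ideal.mem_comap] at this ⊢
      rw [ι.commutes]
      simpa [RingHom.algebraMap_toAlgebra, Algebra.TensorProduct.algebraMap_apply] using
        (show algebraMap A (B ⊗[A] C) (f.coeff i) ∈ q by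
          rw [← (Algebra.TensorProduct.includeRight (R := A) (A := B) (B := C)).commutes]
          exact this)
    · rw [aeval_def, eval₂_map]
      have : aeval (ι b) f ∈ q := by rw [aeval_algHom_apply]; exact hfb
      rw [aeval_def] at this
      rw [show (algebraMap C (B ⊗[A] C)).comp (algebraMap A C) = algebraMap A (B ⊗[A] C) from
        (Algebra.TensorProduct.includeRight (R := A) (A := B) (B := C)).comp_algebraMap]
      exact this

end Groth.Agent.Lib.IndEtale.AlgRes
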