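import Groth.Agent.Lib.IndEtale.Basic
import Mathlib.Algebra.Colimit.DirectLimit

/-!
The tensor product of all etale algebras with a map to a given algebra.
-/

set_option autoImplicit false

universe u

open TensorProduct

namespace Groth.Agent.Lib.IndEtale.BigTensor

open Crit

variable (A B : Type u) [CommRing A] [CommRing B] [Algebra A B]

/-- A presented etale algebra with a map to `B`. -/
structure Pres (n : ℕ) : Type u where
  /-- The relations. -/
  I : Ideal (MvPolynomial (Fin n) A)
  etale : Algebra.Etale A (MvPolynomial (Fin n) A ⧸ I)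
  /-- The map. -/
  map : (MvPolynomial (Fin n) A ⧸ I) →ₐ[A] B

/-- Presentations of the etale algebras mapping to `B`. -/
def Idx : Type u :=
  Σ n : ℕ, Pres A B n

variable {A B}

/-- The algebra of a presentation. -/
abbrev Idx.Alg (t : Idx A B) : Type u := MvPolynomial (Fin t.1) A ⧸ t.2.I

instance (t : Idx A B) : Algebra.Etale A t.Alg := t.2.etale

variable (A B)

/-- All the variables. -/
abbrev Var : Type u := Σ t : Idx A B, Fin t.1

variable {A B} in
/-- The inclusion of the variables of a presentation. -/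
noncomputable abbrev rn (t : Idx A B) : MvPolynomial (Fin t.1) A →ₐ[A] MvPolynomial (Var A B) A :=
  MvPolynomial.rename fun i => (⟨t, i⟩ : Var A B)

/-- All the relations. -/
noncomputable def rels : Ideal (MvPolynomial (Var A B) A) :=
  ⨆ t : Idx A B, t.2.I.map (rn t)

/-- The cover. -/
abbrev Cover : Type u := MvPolynomial (Var A B) A ⧸ rels A B

variable {A B}

/-- The map from a presentation to the cover. -/
noncomputable def incl (t : Idx A B) : t.Alg →ₐ[A] Cover A B :=
  Ideal.Quotient.liftₐ _ ((Ideal.Quotient.mkₐ A (rels A B)).comp (rn t))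
    fun _ ha => Ideal.Quotient.eq_zero_iff_mem.mpr (le_iSup (fun t : Idx A B =>
      t.2.I.map (rn t)) t (Ideal.mem_map_of_mem _ ha))

@[simp] lemma incl_mk (t : Idx A B) (p : MvPolynomial (Fin t.1) A) :
    incl t (Ideal.Quotient.mk _ p) = Ideal.Quotient.mk _ (rn t p) := rfl

/-- Finitely many presentations are dominated by one etale algebra over the big tensor product. -/
lemma exists_stage (l : List (Idx A B)) :
    ∃ (D : Type u) (_ : CommRing D) (_ : Algebra A D) (_ : Algebra.Etale A D)
      (v : D →ₐ[A] Cover A B), ∀ t ∈ l, ∃ k : t.Alg →ₐ[A] D, v.comp k = incl t := by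
  induction l with
  | nil => exact ⟨A, inferInstance, inferInstance, inferInstance, Algebra.ofId A _, by simp⟩
  | cons a l ih =>
    obtain ⟨D, _, _, _, v, hv⟩ := ih
    have : Algebra.Etale A (a.Alg ⊗[A] D) := Algebra.Etale.comp A a.Alg _
    refine ⟨a.Alg ⊗[A] D, inferInstance, inferInstance, this,
      Algebra.TensorProduct.productMap (incl a) v, fun t ht => ?_⟩
    rcases List.mem_cons.mp ht with rfl | ht
    · exact ⟨Algebra.TensorProduct.includeLeft, AlgHom.ext fun x => by simp⟩
    · obtain ⟨k, hk⟩ := hv t ht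
      refine ⟨Algebra.TensorProduct.includeRight.comp k, AlgHom.ext fun x => ?_⟩
      simpa using congr($hk x)

theorem factorsEtale : Basic.FactorsEtale A (Cover A B) := by
  classical
  intro C _ _ hC g
  obtain ⟨n, π, hπ, F, hF'⟩ := hC.out
  have hF : Ideal.span (F : Set (MvPolynomial (Fin n) A)) = RingHom.ker π := hF'
  choose q hq using fun i => Ideal.Quotient.mk_surjective (g (π (MvPolynomial.X i)))
  let Φ : MvPolynomial (Fin n) A →ₐ[A] MvPolynomial (Var A B) A := MvPolynomial.aeval q
  have hΦ : (Ideal.Quotient.mkₐ A (rels A B)).comp Φ = g.comp π :=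
    MvPolynomial.algHom_ext fun i => by simp [Φ, hq]
  have hmem : ∀ f : F, Φ f ∈ rels A B := fun f => by
    refine Ideal.Quotient.eq_zero_iff_mem.mp ?_
    rw [← Ideal.Quotient.mkₐ_eq_mk A, ← AlgHom.comp_apply, hΦ, AlgHom.comp_apply,
      RingHom.mem_ker.mp (hF ▸ Ideal.subset_span f.2 : (f : MvPolynomial (Fin n) A) ∈ RingHom.ker π),
      map_zero]
  choose S hS using fun f => Submodule.exists_finset_of_mem_iSup _ (hmem f)
  let T : Finset (Idx A B) := (Finset.univ.biUnion fun i => (q i).vars.image Sigma.fst) ∪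
    Finset.univ.biUnion S
  obtain ⟨D, _, _, hD, v, hv⟩ := exists_stage T.toList
  choose k hk using fun t (ht : t ∈ T) => hv t (Finset.mem_toList.mpr ht)
  let e : MvPolynomial (Var A B) A →ₐ[A] D := MvPolynomial.aeval fun x =>
    if h : x.1 ∈ T then k x.1 h (Ideal.Quotient.mk _ (MvPolynomial.X x.2)) else 0
  have he : ∀ t (ht : t ∈ T), e.comp (rn t) =
      (k t ht).comp (Ideal.Quotient.mkₐ A _) := fun t ht =>
    MvPolynomial.algHom_ext fun i => by simp [e, ht]
  have hzero : ∀ p, π p = 0 → e (Φ p) = 0 := by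
    suffices h : RingHom.ker π ≤ RingHom.ker (e.comp Φ) from fun p hp => h hp
    rw [← hF, Ideal.span_le]
    intro f hf
    change e (Φ f) = 0
    have h1 : (⨆ t ∈ S ⟨f, hf⟩, t.2.I.map (rn t)) ≤
        RingHom.ker e := by
      refine iSup₂_le fun t ht => Ideal.map_le_iff_le_comap.mpr fun a ha => ?_
      have htT : t ∈ T := Finset.mem_union_right _ (Finset.mem_biUnion.mpr ⟨_, Finset.mem_univ _, ht⟩)
      change e (rn t a) = 0
      rw [← AlgHom.comp_apply, he t htT, AlgHom.comp_apply, Ideal.Quotient.mkₐ_eq_mk,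
        Ideal.Quotient.eq_zero_iff_mem.mpr ha, map_zero]
    exact h1 (hS ⟨f, hf⟩)
  have hve : ∀ i, v (e (q i)) = Ideal.Quotient.mk _ (q i) := fun i => by
    refine MvPolynomial.hom_congr_vars (f₁ := v.toRingHom.comp e.toRingHom)
      (f₂ := Ideal.Quotient.mk (rels A B)) ?_ (fun x hx _ => ?_) rfl
    · ext a
      simp
      rfl
    · have ht : x.1 ∈ T := Finset.mem_union_left _ (Finset.mem_biUnion.mpr
        ⟨i, Finset.mem_univ _, Finset.mem_image_of_mem _ hx⟩)
      simp only [RingHom.coe_comp, AlgHom.toRingHom_eq_coe, RingHom.coe_coe, Function.comp_apply,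
        e, MvPolynomial.aeval_X, dif_pos ht]
      rw [← AlgHom.comp_apply, hk x.1 ht, incl_mk, MvPolynomial.rename_X]
  have hz : ∀ a ∈ RingHom.ker π, (e.comp Φ) a = 0 := fun a ha => hzero a ha
  let u : C →ₐ[A] D := (Ideal.Quotient.liftₐ (RingHom.ker π) (e.comp Φ) hz).comp
    (Ideal.quotientKerAlgEquivOfSurjective hπ).symm.toAlgHom
  refine ⟨D, inferInstance, inferInstance, hD, u, v, AlgHom.ext fun c => ?_⟩
  obtain ⟨p, rfl⟩ := hπ c
  have hu : u (π p) = e (Φ p) := by
    change Ideal.Quotient.liftₐ _ _ hz ((Ideal.quotientKerAlgEquivOfSurjective hπ).symm (π p)) = _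
    rw [show π p = Ideal.quotientKerAlgEquivOfSurjective hπ (Ideal.Quotient.mk _ p) from rfl,
      AlgEquiv.symm_apply_apply]
    rfl
  rw [AlgHom.comp_apply, hu, ← AlgHom.comp_apply g, ← hΦ]
  exact congr($(MvPolynomial.algHom_ext (f := (v.comp e).comp Φ)
    (g := (Ideal.Quotient.mkₐ A (rels A B)).comp Φ) fun i => by simp [Φ, hve]) p)

/-- The canonical map to `B`. -/
noncomputable def toB : Cover A B →ₐ[A] B :=
  Ideal.Quotient.liftₐ _
    (MvPolynomial.aeval fun y : Var A B => y.1.2.map (Ideal.Quotient.mk _ (MvPolynomial.X y.2)))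
    fun a ha => by
      revert a
      change rels A B ≤ RingHom.ker _
      refine iSup_le fun t => Ideal.map_le_iff_le_comap.mpr fun a ha => ?_
      have he : (MvPolynomial.aeval fun y : Var A B =>
          y.1.2.map (Ideal.Quotient.mk _ (MvPolynomial.X y.2))).comp (rn t) =
          t.2.map.comp (Ideal.Quotient.mkₐ A _) :=
        MvPolynomial.algHom_ext fun i => by simp
      rw [Ideal.mem_comap, RingHom.mem_ker, ← AlgHom.comp_apply, he, AlgHom.comp_apply,
        Ideal.Quotient.mkₐ_eq_mk, Ideal.Quotient.eq_zero_iff_mem.mpr ha, map_zero]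

/-- The image of every etale algebra mapping to `B` is hit. -/
theorem range_le (E : Type u) [CommRing E] [Algebra A E] [Algebra.Etale A E] (v : E →ₐ[A] B) :
    Set.range v ⊆ Set.range (toB (A := A) (B := B)) := by
  rintro _ ⟨z, rfl⟩
  obtain ⟨n, π, hπ, -⟩ := (inferInstance : Algebra.FinitePresentation A E).out
  let e := Ideal.quotientKerAlgEquivOfSurjective hπ
  let t : Idx A B := ⟨n, ⟨RingHom.ker π, Algebra.Etale.of_equiv e.symm, v.comp e.toAlgHom⟩⟩
  have he : (toB (A := A) (B := B)).comp (incl t) = t.2.map := by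
    refine Ideal.Quotient.algHom_ext _ (MvPolynomial.algHom_ext fun i => ?_)
    simp [toB]
  exact ⟨incl t (e.symm z), (congr($he (e.symm z))).trans (congrArg v (e.apply_symm_apply z))⟩

end Groth.Agent.Lib.IndEtale.BigTensor
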