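import Mathlib.Algebra.Category.Ring.FinitePresentation
import Mathlib.Algebra.Category.Ring.Under.Basic
import Mathlib.RingTheory.FinitePresentation
import Mathlib.RingTheory.FiniteStability

/-!
Filtered colimits of algebras with a property `P`, and the criterion: every map from a finitely
presented algebra factors through an algebra with property `P`.
-/

set_option autoImplicit false

universe u

open CategoryTheory CategoryTheory.Limits TensorProduct

namespace Groth.Agent.Lib.IndEtale.Crit

variable (A : Type u) [CommRing A]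

/-- A property of `A`-algebras. -/
abbrev AlgProp : Type (u + 1) := ∀ (E : Type u) [CommRing E] [Algebra A E], Prop

variable {A}

/-- `B` is a filtered colimit of algebras satisfying `P`. -/
def IsInd (P : AlgProp A) (B : Type u) [CommRing B] [Algebra A B] : Prop :=
  ∃ (J : Type u) (_ : SmallCategory J) (_ : IsFiltered J) (D : J ⥤ Under (CommRingCat.of A))
    (c : Cocone D) (_ : IsColimit c),
    (∀ j, letI := (D.obj j).hom.hom.toAlgebra; P (D.obj j).right) ∧
    Nonempty (c.pt ≅ Under.mk (CommRingCat.ofHom (algebraMap A B)))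

/-- Every map from a finitely presented algebra to `B` factors through an algebra with `P`. -/
def Factors (P : AlgProp A) (B : Type u) [CommRing B] [Algebra A B] : Prop :=
  ∀ (C : Type u) [CommRing C] [Algebra A C], Algebra.FinitePresentation A C →
    ∀ g : C →ₐ[A] B, ∃ (E : Type u) (_ : CommRing E) (_ : Algebra A E),
      P E ∧ ∃ (u : C →ₐ[A] E) (v : E →ₐ[A] B), v.comp u = g

/-- `P` only depends on the isomorphism class. -/
def RespectsAlgEquiv (P : AlgProp A) : Prop :=
  ∀ ⦃E E' : Type u⦄ [CommRing E] [Algebra A E] [CommRing E'] [Algebra A E'],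
    (E ≃ₐ[A] E') → P E → P E'

/-- `P` implies finite presentation. -/
def ImpliesFP (P : AlgProp A) : Prop :=
  ∀ ⦃E : Type u⦄ [CommRing E] [Algebra A E], P E → Algebra.FinitePresentation A E

variable {P Q : AlgProp A}

lemma prop_underAlgebra (X : Type u) [CommRing X] [Algebra A X] (h : P X) :
    @P X _ (CommRingCat.ofHom (algebraMap A X)).hom.toAlgebra := by
  convert h
  exact Algebra.algebra_ext _ _ (fun _ => rfl)

/-- A finitely presented test map into a filtered colimit factors through a stage. -/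
lemma exists_factor {J : Type u} [SmallCategory J] [IsFiltered J]
    {D : J ⥤ Under (CommRingCat.of A)} {c : Cocone D} (hc : IsColimit c)
    (C : Type u) [CommRing C] [Algebra A C] [Algebra.FinitePresentation A C]
    (g : Under.mk (CommRingCat.ofHom (algebraMap A C)) ⟶ c.pt) :
    ∃ (j : J) (g' : Under.mk (CommRingCat.ofHom (algebraMap A C)) ⟶ D.obj j),
      g' ≫ c.ι.app j = g := by
  obtain ⟨i, g', h₁, h₂⟩ := RingHom.EssFiniteType.exists_eq_comp_ι_app_of_isColimit
    (CommRingCat.of A) (D ⋙ Under.forget _) { app i := (D.obj i).hom }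
    (CommRingCat.ofHom (algebraMap A C)) ((Under.forget _).mapCocone c)
    (isColimitOfPreserves _ hc)
    (RingHom.finitePresentation_algebraMap.mpr inferInstance) g.right (fun i => by
      simp only [Functor.mapCocone_ι_app, Under.forget_map]
      exact (Under.w g).trans (Under.w (c.ι.app i)).symm)
  exact ⟨i, Under.homMk g' h₁, Under.UnderMorphism.ext h₂.symm⟩

lemma factors_of_isInd {B : Type u} [CommRing B] [Algebra A B] (h : IsInd P B) :
    Factors P B := by
  obtain ⟨J, _, _, D, c, hc, hD, ⟨e⟩⟩ := h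
  intro C _ _ hC g
  have := hC
  let g₁ : Under.mk (CommRingCat.ofHom (algebraMap A C)) ⟶
      Under.mk (CommRingCat.ofHom (algebraMap A B)) := g.toUnder (R := CommRingCat.of A)
  obtain ⟨j, g', hg'⟩ := exists_factor hc C (g₁ ≫ e.inv)
  let _ := (D.obj j).hom.hom.toAlgebra
  refine ⟨(D.obj j).right, inferInstance, inferInstance, hD j, ?_⟩
  let u : C →ₐ[A] (D.obj j).right :=
    { g'.right.hom with
      commutes' := fun a => congr($(Under.w g').hom a) }
  let v : (D.obj j).right →ₐ[A] B :=
    { (c.ι.app j ≫ e.hom).right.hom with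
      commutes' := fun a => congr($(Under.w (c.ι.app j ≫ e.hom)).hom a) }
  refine ⟨u, v, AlgHom.ext fun x => ?_⟩
  have : g' ≫ c.ι.app j ≫ e.hom = g₁ := by rw [← Category.assoc, hg']; simp
  exact congr($(this).right.hom x)

namespace Build

variable (P) (B : Type u) [CommRing B] [Algebra A B]

/-- Index: a presented algebra with `P`, with a map to `B`. -/
structure Idx : Type u where
  n : ℕ
  I : Ideal (MvPolynomial (Fin n) A)
  hP : P (MvPolynomial (Fin n) A ⧸ I)
  v : (MvPolynomial (Fin n) A ⧸ I) →ₐ[A] B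

variable {P B}

abbrev Idx.ring (i : Idx P B) : Type u := MvPolynomial (Fin i.n) A ⧸ i.I

noncomputable instance instSmallCategoryIdx : SmallCategory (Idx P B) where
  Hom i j := {f : i.ring →ₐ[A] j.ring // j.v.comp f = i.v}
  id i := ⟨AlgHom.id A _, by ext; rfl⟩
  comp {i j k} f g := ⟨g.1.comp f.1, by rw [← AlgHom.comp_assoc, g.2, f.2]⟩

variable (P B) in
/-- The diagram. -/
noncomputable def diag : Idx P B ⥤ Under (CommRingCat.of A) where
  obj i := Under.mk (CommRingCat.ofHom (algebraMap A i.ring))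
  map f := f.1.toUnder (R := CommRingCat.of A)

variable (P B) in
/-- The tautological cocone. -/
noncomputable def cocone : Cocone (diag P B) where
  pt := Under.mk (CommRingCat.ofHom (algebraMap A B))
  ι :=
    { app := fun i => i.v.toUnder (R := CommRingCat.of A)
      naturality := fun i j f => Under.UnderMorphism.ext (by ext x; exact congr($(f.2) x)) }

lemma exists_over (hfp : ImpliesFP P) (hiso : RespectsAlgEquiv P) (hB : Factors P B)
    (C : Type u) [CommRing C] [Algebra A C] [Algebra.FinitePresentation A C] (g : C →ₐ[A] B) :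
    ∃ (i : Idx P B) (u : C →ₐ[A] i.ring), i.v.comp u = g := by
  obtain ⟨E, _, _, hE, u, v, huv⟩ := hB C inferInstance g
  obtain ⟨n, f, hf, -⟩ := (hfp hE).out
  let e := Ideal.quotientKerAlgEquivOfSurjective hf
  refine ⟨⟨n, RingHom.ker f, hiso e.symm hE, v.comp e.toAlgHom⟩, e.symm.toAlgHom.comp u, ?_⟩
  ext x
  simp [← huv]

variable (hfp : ImpliesFP P) (hiso : RespectsAlgEquiv P) (hB : Factors P B)
include hfp hiso hB

lemma nonempty : Nonempty (Idx P B) :=
  have ⟨i, _⟩ := exists_over hfp hiso hB A (Algebra.ofId A B)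
  ⟨i⟩

lemma exists_eq (b : B) : ∃ (i : Idx P B) (x : i.ring), i.v x = b := by
  obtain ⟨i, u, hu⟩ := exists_over hfp hiso hB (MvPolynomial Unit A)
    (MvPolynomial.aeval fun _ => b)
  exact ⟨i, u (MvPolynomial.X ()), by simpa using congr($hu (MvPolynomial.X ()))⟩

lemma exists_sup (i j : Idx P B) :
    ∃ (k : Idx P B), Nonempty (i ⟶ k) ∧ Nonempty (j ⟶ k) := by
  have := hfp i.hP; have := hfp j.hP
  have : Algebra.FinitePresentation A (i.ring ⊗[A] j.ring) :=
    Algebra.FinitePresentation.trans A i.ring (i.ring ⊗[A] j.ring)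
  obtain ⟨k, u, hu⟩ := exists_over hfp hiso hB (i.ring ⊗[A] j.ring)
    (Algebra.TensorProduct.lift i.v j.v fun _ _ => Commute.all _ _)
  refine ⟨k, ⟨⟨u.comp Algebra.TensorProduct.includeLeft, ?_⟩⟩,
    ⟨⟨u.comp Algebra.TensorProduct.includeRight, ?_⟩⟩⟩
  · rw [← AlgHom.comp_assoc, hu]; ext x; simp
  · rw [← AlgHom.comp_assoc, hu]; ext x; simp

lemma exists_equalize (j : Idx P B) (s : Finset (j.ring × j.ring))
    (hs : ∀ p ∈ s, j.v p.1 = j.v p.2) :
    ∃ (k : Idx P B) (h : j ⟶ k), ∀ p ∈ s, h.1 p.1 = h.1 p.2 := by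
  classical
  have := hfp j.hP
  let I : Ideal j.ring := Ideal.span ((s.image fun p => p.1 - p.2 : Finset j.ring) : Set j.ring)
  have : Algebra.FinitePresentation A (j.ring ⧸ I) :=
    .quotient ⟨_, rfl⟩
  obtain ⟨k, u, hu⟩ := exists_over hfp hiso hB (j.ring ⧸ I)
    (Ideal.Quotient.liftₐ I j.v (fun a ha => by
      refine (Ideal.span_le (I := RingHom.ker j.v) |>.mpr ?_) ha
      intro z hz
      simp only [Finset.coe_image, Set.mem_image, Finset.mem_coe] at hz
      obtain ⟨p, hp, rfl⟩ := hz
      simp [RingHom.mem_ker, hs p hp]))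
  refine ⟨k, ⟨u.comp (Ideal.Quotient.mkₐ A I), ?_⟩, fun p hp => ?_⟩
  · rw [← AlgHom.comp_assoc, hu]; ext x; rfl
  · refine congr_arg u (Ideal.Quotient.eq.mpr (Ideal.subset_span ?_))
    simp only [Finset.coe_image, Set.mem_image, Finset.mem_coe]
    exact ⟨p, hp, rfl⟩

lemma isFiltered : IsFiltered (Idx P B) := by
  have := nonempty hfp hiso hB
  have : IsFilteredOrEmpty (Idx P B) :=
    { cocone_objs := fun i j =>
        let ⟨k, ⟨f⟩, ⟨g⟩⟩ := exists_sup hfp hiso hB i j
        ⟨k, f, g, trivial⟩
      cocone_maps := fun i j f g => by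
        classical
        obtain ⟨t, ht⟩ := ((hfp i.hP) : Algebra.FinitePresentation A i.ring) |>
          fun h => (inferInstance : Algebra.FiniteType A i.ring).out
        obtain ⟨k, h, hk⟩ := exists_equalize hfp hiso hB j (t.image fun x => (f.1 x, g.1 x))
          (fun p hp => by
            simp only [Finset.mem_image] at hp
            obtain ⟨x, -, rfl⟩ := hp
            exact (congr($(f.2) x)).trans (congr($(g.2) x)).symm)
        refine ⟨k, h, Subtype.ext (AlgHom.ext_of_adjoin_eq_top ht fun x hx => ?_)⟩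
        exact hk (f.1 x, g.1 x) (Finset.mem_image.mpr ⟨x, hx, rfl⟩) }
  exact ⟨⟩

/-- Equal images in `B` become equal at a common stage. -/
lemma exists_common {i j : Idx P B} (x : i.ring) (y : j.ring) (h : i.v x = j.v y) :
    ∃ (k : Idx P B) (f : i ⟶ k) (g : j ⟶ k), f.1 x = g.1 y := by
  classical
  obtain ⟨k, ⟨f⟩, ⟨g⟩⟩ := exists_sup hfp hiso hB i j
  obtain ⟨l, m, hm⟩ := exists_equalize hfp hiso hB k {(f.1 x, g.1 y)} (fun p hp => by
    simp only [Finset.mem_singleton] at hp
    subst hp
    exact (congr($(f.2) x)).trans (h.trans (congr($(g.2) y)).symm))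
  exact ⟨l, f ≫ m, g ≫ m, hm _ (Finset.mem_singleton_self _)⟩

omit hfp hiso hB in
lemma w_apply (s : Cocone (diag P B)) {i k : Idx P B} (f : i ⟶ k) (x : i.ring) :
    (s.ι.app k).right.hom (f.1 x) = (s.ι.app i).right.hom x :=
  congr($(s.w f).right.hom x)

lemma well_defined (s : Cocone (diag P B)) {i j : Idx P B} (x : i.ring) (y : j.ring)
    (h : i.v x = j.v y) : (s.ι.app i).right.hom x = (s.ι.app j).right.hom y := by
  obtain ⟨k, f, g, hk⟩ := exists_common hfp hiso hB x y h
  rw [← w_apply s f x, ← w_apply s g y, hk]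

/-- The descended function. -/
noncomputable def descFun (s : Cocone (diag P B)) (b : B) : s.pt.right :=
  (s.ι.app (exists_eq hfp hiso hB b).choose).right.hom
    (exists_eq hfp hiso hB b).choose_spec.choose

lemma descFun_v (s : Cocone (diag P B)) (i : Idx P B) (x : i.ring) :
    descFun hfp hiso hB s (i.v x) = (s.ι.app i).right.hom x :=
  well_defined hfp hiso hB s _ x (exists_eq hfp hiso hB (i.v x)).choose_spec.choose_spec

lemma exists_eq_pair (a b : B) :
    ∃ (k : Idx P B) (x y : k.ring), k.v x = a ∧ k.v y = b := by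
  obtain ⟨i, x, hx⟩ := exists_eq hfp hiso hB a
  obtain ⟨j, y, hy⟩ := exists_eq hfp hiso hB b
  obtain ⟨k, ⟨f⟩, ⟨g⟩⟩ := exists_sup hfp hiso hB i j
  exact ⟨k, f.1 x, g.1 y, (congr($(f.2) x)).trans hx, (congr($(g.2) y)).trans hy⟩

/-- The descended map. -/
noncomputable def descHom (s : Cocone (diag P B)) : B →+* s.pt.right where
  toFun := descFun hfp hiso hB s
  map_one' := by
    obtain ⟨i⟩ := nonempty hfp hiso hB
    rw [← map_one i.v, descFun_v]
    exact map_one _
  map_mul' a b := by
    obtain ⟨k, x, y, rfl, rfl⟩ := exists_eq_pair hfp hiso hB a b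
    rw [← map_mul k.v, descFun_v, descFun_v, descFun_v]
    exact map_mul _ _ _
  map_zero' := by
    obtain ⟨i⟩ := nonempty hfp hiso hB
    rw [← map_zero i.v, descFun_v]
    exact map_zero _
  map_add' a b := by
    obtain ⟨k, x, y, rfl, rfl⟩ := exists_eq_pair hfp hiso hB a b
    rw [← map_add k.v, descFun_v, descFun_v, descFun_v]
    exact map_add _ _ _

lemma descHom_v (s : Cocone (diag P B)) (i : Idx P B) (x : i.ring) :
    descHom hfp hiso hB s (i.v x) = (s.ι.app i).right.hom x :=
  descFun_v hfp hiso hB s i x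

/-- `B` is the colimit. -/
noncomputable def isColimit : IsColimit (cocone P B) where
  desc s := Under.homMk (CommRingCat.ofHom (descHom hfp hiso hB s)) (by
    ext a
    obtain ⟨i⟩ := nonempty hfp hiso hB
    change descHom hfp hiso hB s (algebraMap A B a) = _
    rw [← i.v.commutes a, descHom_v]
    exact congr($(Under.w (s.ι.app i)).hom a))
  fac s i := Under.UnderMorphism.ext (by
    ext x
    exact descHom_v hfp hiso hB s i x)
  uniq s m hm := Under.UnderMorphism.ext (by
    ext b
    obtain ⟨i, x, rfl⟩ := exists_eq hfp hiso hB b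
    change m.right.hom (i.v x) = descHom hfp hiso hB s (i.v x)
    rw [descHom_v]
    exact congr($(hm i).right.hom x))

end Build

lemma isInd_of_factors (hfp : ImpliesFP P) (hiso : RespectsAlgEquiv P) {B : Type u} [CommRing B]
    [Algebra A B] (hB : Factors P B) : IsInd P B :=
  ⟨Build.Idx P B, inferInstance, Build.isFiltered hfp hiso hB, Build.diag P B, Build.cocone P B,
    Build.isColimit hfp hiso hB, fun i => prop_underAlgebra _ i.hP, ⟨Iso.refl _⟩⟩

lemma isInd_iff_factors (hfp : ImpliesFP P) (hiso : RespectsAlgEquiv P) (B : Type u) [CommRing B]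
    [Algebra A B] : IsInd P B ↔ Factors P B :=
  ⟨factors_of_isInd, isInd_of_factors hfp hiso⟩

/-! Closure properties. -/

lemma Factors.of_prop {B : Type u} [CommRing B] [Algebra A B] (h : P B) : Factors P B :=
  fun _C _ _ _ g => ⟨B, inferInstance, inferInstance, h, g, AlgHom.id A B, AlgHom.id_comp g⟩

lemma Factors.trans {B : Type u} [CommRing B] [Algebra A B]
    (h : Factors (fun E i1 i2 => @Factors A _ P E i1 i2) B) : Factors P B := by
  intro C _ _ hC g
  obtain ⟨E, _, _, hE, u, v, huv⟩ := h C hC g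
  obtain ⟨F, _, _, hF, u', v', huv'⟩ := hE C hC u
  exact ⟨F, inferInstance, inferInstance, hF, u', v.comp v',
    by rw [AlgHom.comp_assoc, huv', huv]⟩

lemma Factors.mono {B : Type u} [CommRing B] [Algebra A B] (h : Factors P B)
    (hPQ : ∀ (E : Type u) [CommRing E] [Algebra A E], P E → Q E) : Factors Q B := by
  intro C _ _ hC g
  obtain ⟨E, i1, i2, hE, u, v, huv⟩ := h C hC g
  exact ⟨E, i1, i2, hPQ E hE, u, v, huv⟩

lemma Factors.of_algEquiv {B B' : Type u} [CommRing B] [Algebra A B] [CommRing B'] [Algebra A B']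
    (h : Factors P B) (e : B ≃ₐ[A] B') : Factors P B' := by
  intro C _ _ hC g
  obtain ⟨E, _, _, hE, u, v, huv⟩ := h C hC (e.symm.toAlgHom.comp g)
  refine ⟨E, inferInstance, inferInstance, hE, u, e.toAlgHom.comp v, ?_⟩
  rw [AlgHom.comp_assoc, huv]
  ext; simp

/-- A map from an algebra of finite type over `ℤ` into `B` lifts to a stage. -/
lemma Factors.exists_lift_subalgebra {B : Type u} [CommRing B] [Algebra A B] (h : Factors P B)
    (B₀ : Subalgebra ℤ B) (hB₀ : B₀.FG) :
    ∃ (E : Type u) (_ : CommRing E) (_ : Algebra A E), P E ∧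
      ∃ (v : E →ₐ[A] B) (φ : B₀ →+* E), ∀ b : B₀, v (φ b) = b := by
  have : Algebra.FiniteType ℤ B₀ := B₀.fg_iff_finiteType.mp hB₀
  have : Algebra.FinitePresentation ℤ B₀ := Algebra.FinitePresentation.of_finiteType.mp this
  obtain ⟨E, _, _, hE, u, v, huv⟩ := h (A ⊗[ℤ] B₀) inferInstance
    (Algebra.TensorProduct.lift (Algebra.ofId A B) B₀.val fun _ _ => Commute.all _ _)
  refine ⟨E, inferInstance, inferInstance, hE, v,
    u.toRingHom.comp Algebra.TensorProduct.includeRight.toRingHom, fun b => ?_⟩
  simpa using congr($huv (1 ⊗ₜ b))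

section baseChange

variable {A' : Type u} [CommRing A'] [Algebra A A']

lemma IsInd.baseChange {P' : AlgProp A'}
    (hPP' : ∀ (E : Type u) [CommRing E] [Algebra A E], P E → P' (A' ⊗[A] E))
    {B : Type u} [CommRing B] [Algebra A B] (h : IsInd P B) : IsInd P' (A' ⊗[A] B) := by
  obtain ⟨J, _, _, D, c, hc, hD, ⟨e⟩⟩ := h
  let F : Under (CommRingCat.of A) ⥤ Under (CommRingCat.of A') :=
    CommRingCat.tensorProd (CommRingCat.of A) (CommRingCat.of A')
  have : PreservesColimitsOfSize.{u, u} F :=
    preservesColimits_of_natIso (CommRingCat.tensorProdIsoPushout _ _).symm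
  refine ⟨J, inferInstance, inferInstance, D ⋙ F, F.mapCocone c, isColimitOfPreserves F hc,
    fun j => ?_, ⟨F.mapIso e ≪≫ ?_⟩⟩
  · exact prop_underAlgebra (A := A') _
      (@hPP' (D.obj j).right _ (D.obj j).hom.hom.toAlgebra (hD j))
  · let inst : Algebra A B := inferInstance
    have he : (algebraMap A B).toAlgebra = inst := Algebra.algebra_ext _ _ (fun _ => rfl)
    exact eqToIso (congr_arg (fun i : Algebra A B =>
      letI := i
      Under.mk (CommRingCat.ofHom (algebraMap A' (A' ⊗[A] B)))) he)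

end baseChange

end Groth.Agent.Lib.IndEtale.Crit
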