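import Groth.Agent.Lib.IndEtale.EtaleCover
import Groth.Prelude.Def_ProEtW

/-!
Every ring has a faithfully flat ind-etale extension with retractions for faithfully flat etale
algebras.
-/

set_option autoImplicit false

universe u

open TensorProduct

namespace Groth.Agent.Lib.IndEtale.EtaleClosure

open Crit

variable (A : Type u) [CommRing A]

/-- A faithfully flat ind-etale algebra. -/
structure Stage where
  /-- The ring. -/
  ring : Type u
  [commRing : CommRing ring]
  [alg : Algebra A ring]
  factors : Basic.FactorsEtale A ring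
  surj : Function.Surjective (PrimeSpectrum.comap (algebraMap A ring))

attribute [instance] Stage.commRing Stage.alg

variable {A}

/-- One step. -/
noncomputable def Stage.next (S : Stage A) : Stage A where
  ring := EtaleCover.Cover S.ring
  factors := Basic.factors (Basic.trans (Basic.of_factors S.factors)
    (Basic.of_factors EtaleCover.factorsEtale))
  surj := by
    rw [IsScalarTower.algebraMap_eq A S.ring (EtaleCover.Cover S.ring), PrimeSpectrum.comap_comp]
    exact S.surj.comp EtaleCover.comap_surjective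

variable (A)

/-- The sequence. -/
noncomputable def seq : ℕ → Stage A
  | 0 => { ring := A, factors := Basic.factors Basic.of_etale, surj := fun x => ⟨x, by simp⟩ }
  | n + 1 => (seq n).next

/-- The rings of the sequence. -/
abbrev G (n : ℕ) : Type u := (seq A n).ring

/-- One transition. -/
noncomputable def step (n : ℕ) : G A n →ₐ[A] G A (n + 1) :=
  IsScalarTower.toAlgHom A (G A n) (EtaleCover.Cover (G A n))

/-- Transitions. -/
noncomputable def tr {i j : ℕ} (h : i ≤ j) : G A i →ₐ[A] G A j :=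
  Nat.leRec (motive := fun j _ => G A i →ₐ[A] G A j) (AlgHom.id A _)
    (fun k _ φ => (step A k).comp φ) h

lemma tr_self (i : ℕ) : tr A (le_refl i) = AlgHom.id A _ :=
  Nat.leRec_self _ _

lemma tr_succ {i j : ℕ} (h : i ≤ j) : tr A (h.trans j.le_succ) = (step A j).comp (tr A h) :=
  Nat.leRec_succ _ _ h

lemma tr_trans {i j k : ℕ} (h : i ≤ j) (h' : j ≤ k) : tr A (h.trans h') = (tr A h').comp (tr A h) := by
  induction h' with
  | refl => rw [tr_self, AlgHom.id_comp]
  | @step m h' ih => rw [tr_succ A (h.trans h'), tr_succ A h', ih, AlgHom.comp_assoc]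

instance : DirectedSystem (G A) (fun _ _ h => tr A h) where
  map_self i x := by rw [tr_self]; rfl
  map_map k j i h h' x := by rw [← AlgHom.comp_apply, ← tr_trans]

/-- The limit. -/
abbrev Lim : Type u := DirectLimit (G A) (fun _ _ h => tr A h)

/-- The map from a stage. -/
noncomputable abbrev of (n : ℕ) : G A n →ₐ[A] Lim A :=
  DirectLimit.Algebra.of (G A) (fun _ _ h => tr A h) n

lemma of_tr {i j : ℕ} (h : i ≤ j) (x : G A i) : of A j (tr A h x) = of A i x :=
  DirectLimit.Algebra.of_f h x

lemma exists_of (s : Finset (Lim A)) : ∃ n, (s : Set (Lim A)) ⊆ Set.range (of A n) := by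
  classical
  induction s using Finset.induction with
  | empty => exact ⟨0, by simp⟩
  | insert x s _ ih =>
    obtain ⟨n, hn⟩ := ih
    induction x using DirectLimit.induction with | _ i y
    refine ⟨max n i, ?_⟩
    rw [Finset.coe_insert, Set.insert_subset_iff]
    refine ⟨⟨tr A (le_max_right n i) y, of_tr A _ _⟩, fun z hz => ?_⟩
    obtain ⟨w, rfl⟩ := hn hz
    exact ⟨tr A (le_max_left n i) w, of_tr A _ _⟩

lemma exists_tr_eq_zero {n : ℕ} (s : Finset (G A n)) (hs : ∀ x ∈ s, of A n x = 0) :
    ∃ (m : ℕ) (h : n ≤ m), ∀ x ∈ s, tr A h x = 0 := by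
  classical
  induction s using Finset.induction with
  | empty => exact ⟨n, le_rfl, by simp⟩
  | insert x s _ ih =>
    obtain ⟨m, h, hm⟩ := ih fun y hy => hs y (Finset.mem_insert_of_mem hy)
    obtain ⟨k, hi, hj, e⟩ := Quotient.exact
      ((hs x (Finset.mem_insert_self x s)).trans (map_zero (of A n)).symm)
    refine ⟨max k m, le_trans h (le_max_right k m), fun y hy => ?_⟩
    rcases Finset.mem_insert.mp hy with rfl | hy
    · rw [show tr A (le_trans h (le_max_right k m)) = (tr A (le_max_left k m)).comp (tr A hi) from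
        tr_trans A hi (le_max_left k m), AlgHom.comp_apply]
      have e' : tr A hi y = 0 := e.trans (map_zero _)
      rw [e', map_zero]
    · rw [tr_trans A h (le_max_right k m), AlgHom.comp_apply, hm y hy, map_zero]

/-- A map from a finitely presented algebra lifts to a stage. -/
theorem exists_lift (C : Type u) [CommRing C] [Algebra A C] [hC : Algebra.FinitePresentation A C]
    (g : C →ₐ[A] Lim A) : ∃ (n : ℕ) (g' : C →ₐ[A] G A n), (of A n).comp g' = g := by
  classical
  obtain ⟨N, π, hπ, F, hF'⟩ := hC.out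
  have hF : Ideal.span (F : Set (MvPolynomial (Fin N) A)) = RingHom.ker π := hF'
  obtain ⟨n, hn⟩ := exists_of A (Finset.univ.image fun i => g (π (MvPolynomial.X i)))
  choose q hq using fun i => hn (Finset.mem_image_of_mem (fun i => g (π (MvPolynomial.X i)))
    (Finset.mem_univ i))
  let Φ : MvPolynomial (Fin N) A →ₐ[A] G A n := MvPolynomial.aeval q
  have hΦ : (of A n).comp Φ = g.comp π := MvPolynomial.algHom_ext fun i => by simp [Φ, hq]
  obtain ⟨m, h, hm⟩ := exists_tr_eq_zero A (F.image Φ) (fun x hx => by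
    obtain ⟨f, hf, rfl⟩ := Finset.mem_image.mp hx
    rw [← AlgHom.comp_apply, hΦ, AlgHom.comp_apply,
      RingHom.mem_ker.mp (hF ▸ Ideal.subset_span hf : f ∈ RingHom.ker π), map_zero])
  have hzero : ∀ a ∈ RingHom.ker π, ((tr A h).comp Φ) a = 0 := by
    intro a ha
    have : Ideal.span (F : Set (MvPolynomial (Fin N) A)) ≤ RingHom.ker ((tr A h).comp Φ) := by
      rw [Ideal.span_le]
      exact fun f hf => hm _ (Finset.mem_image_of_mem _ hf)
    exact this (hF ▸ ha)
  refine ⟨m, (Ideal.Quotient.liftₐ (RingHom.ker π) ((tr A h).comp Φ) hzero).comp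
    (Ideal.quotientKerAlgEquivOfSurjective hπ).symm.toAlgHom, AlgHom.ext fun c => ?_⟩
  obtain ⟨p, rfl⟩ := hπ c
  rw [AlgHom.comp_apply, AlgHom.comp_apply,
    show π p = Ideal.quotientKerAlgEquivOfSurjective hπ (Ideal.Quotient.mk _ p) from rfl,
    AlgEquiv.toAlgHom_apply, AlgEquiv.symm_apply_apply]
  change of A m (tr A h (Φ p)) = g (π p)
  rw [of_tr, ← AlgHom.comp_apply, hΦ, AlgHom.comp_apply]

theorem factorsEtale : Basic.FactorsEtale A (Lim A) := by
  intro C _ _ hC g
  obtain ⟨n, g', hg'⟩ := exists_lift A C g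
  obtain ⟨E, _, _, hE, u, v, huv⟩ := (seq A n).factors C hC g'
  exact ⟨E, inferInstance, inferInstance, hE, u, (of A n).comp v, by
    rw [AlgHom.comp_assoc, huv, hg']⟩

theorem faithfullyFlat : Module.FaithfullyFlat A (Lim A) := by
  have : Module.Flat A (Lim A) := Basic.flat (factorsEtale A)
  refine Module.FaithfullyFlat.of_comap_surjective fun x => ?_
  by_contra! hx
  have : ∃ y : PrimeSpectrum (Lim A), PrimeSpectrum.comap (algebraMap A (Lim A)) y = x := by
    rw [← Set.mem_range]
    rw [PrimeSpectrum.mem_range_comap_iff]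
    refine le_antisymm (fun a ha => ?_) Ideal.le_comap_map
    classical
    by_contra hax
    rw [Ideal.mem_comap, Ideal.map, ← Set.image_id (algebraMap A (Lim A) '' _),
      Ideal.span, Submodule.mem_span_image_iff_exists_fun] at ha
    obtain ⟨t, ht, c, hc⟩ := ha
    obtain ⟨n, hn⟩ := exists_of A (Finset.univ.image c)
    choose c' hc' using fun i => hn (Finset.mem_image_of_mem c (Finset.mem_univ i))
    choose b hb hbt using fun i : t => ht i.2
    obtain ⟨m, h, hm⟩ := exists_tr_eq_zero A
      {∑ i, c' i * algebraMap A (G A n) (b i) - algebraMap A (G A n) a} (fun z hz => by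
        rw [Finset.mem_singleton.mp hz, map_sub, map_sum, AlgHom.commutes, sub_eq_zero]
        refine Eq.trans ?_ hc
        refine Finset.sum_congr rfl fun i _ => ?_
        rw [map_mul, hc', AlgHom.commutes, hbt, smul_eq_mul, id])
    have hm' := hm _ (Finset.mem_singleton_self _)
    rw [map_sub, map_sum, AlgHom.commutes, sub_eq_zero] at hm'
    obtain ⟨y, hy⟩ := (seq A m).surj x
    apply hax
    rw [← hy, PrimeSpectrum.comap_asIdeal, Ideal.mem_comap, ← hm']
    refine Ideal.sum_mem _ fun i _ => ?_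
    rw [map_mul, AlgHom.commutes]
    refine Ideal.mul_mem_left _ _ ?_
    rw [← Ideal.mem_comap, ← PrimeSpectrum.comap_asIdeal, hy]
    exact hb i
  obtain ⟨y, hy⟩ := this
  exact hx y hy

lemma exists_compositum {k K₁ K₂ : Type u} [Field k] [Field K₁] [Field K₂] (f₁ : k →+* K₁)
    (f₂ : k →+* K₂) : ∃ (L : Type u) (_ : Field L) (l₁ : K₁ →+* L) (l₂ : K₂ →+* L),
      l₁.comp f₁ = l₂.comp f₂ := by
  letI := f₁.toAlgebra
  letI := f₂.toAlgebra
  obtain ⟨M, hM⟩ := Ideal.exists_maximal (K₁ ⊗[k] K₂)
  refine ⟨_ ⧸ M, Ideal.Quotient.field M,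
    (Ideal.Quotient.mk M).comp Algebra.TensorProduct.includeLeftRingHom,
    (Ideal.Quotient.mk M).comp (Algebra.TensorProduct.includeRight (R := k) (A := K₁)).toRingHom, ?_⟩
  refine RingHom.ext fun r => congrArg (Ideal.Quotient.mk M) ?_
  exact ((Algebra.TensorProduct.includeRight (R := k) (A := K₁) (B := K₂)).commutes r).symm

lemma exists_comap {R S T : Type u} [CommRing R] [CommRing S] [CommRing T] [Algebra R S]
    [Algebra R T] (y : PrimeSpectrum S) (q : PrimeSpectrum T)
    (h : PrimeSpectrum.comap (algebraMap R S) y = PrimeSpectrum.comap (algebraMap R T) q) :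
    ∃ P : PrimeSpectrum (S ⊗[R] T), PrimeSpectrum.comap (algebraMap S (S ⊗[R] T)) P = y ∧
      PrimeSpectrum.comap (Algebra.TensorProduct.includeRight (R := R) (A := S) (B := T)).toRingHom P
        = q := by
  let x := PrimeSpectrum.comap (algebraMap R S) y
  let f₁ : x.asIdeal.ResidueField →+* y.asIdeal.ResidueField :=
    Ideal.ResidueField.map x.asIdeal y.asIdeal (algebraMap R S) rfl
  let f₂ : x.asIdeal.ResidueField →+* q.asIdeal.ResidueField :=
    Ideal.ResidueField.map x.asIdeal q.asIdeal (algebraMap R T) (congrArg PrimeSpectrum.asIdeal h)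
  obtain ⟨L, _, l₁, l₂, hl⟩ := exists_compositum f₁ f₂
  letI : Algebra R L := ((l₁.comp f₁).comp (algebraMap R x.asIdeal.ResidueField)).toAlgebra
  let g₁ : S →ₐ[R] L := { l₁.comp (algebraMap S y.asIdeal.ResidueField) with
    commutes' := fun r => by
      change l₁ _ = l₁ (f₁ _)
      exact congrArg l₁ (Ideal.ResidueField.map_algebraMap x.asIdeal y.asIdeal _ _ r).symm }
  let g₂ : T →ₐ[R] L := { l₂.comp (algebraMap T q.asIdeal.ResidueField) with
    commutes' := fun r => by
      rw [RingHom.algebraMap_toAlgebra, hl]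
      change l₂ _ = l₂ (f₂ _)
      exact congrArg l₂ (Ideal.ResidueField.map_algebraMap x.asIdeal q.asIdeal _ _ r).symm }
  let g := Algebra.TensorProduct.lift g₁ g₂ fun _ _ => Commute.all _ _
  refine ⟨PrimeSpectrum.comap g.toRingHom ⊥, PrimeSpectrum.ext (Ideal.ext fun s => ?_),
    PrimeSpectrum.ext (Ideal.ext fun t => ?_)⟩
  · simp only [PrimeSpectrum.comap_asIdeal, Ideal.mem_comap, PrimeSpectrum.asIdeal_bot, Ideal.mem_bot]
    change g (s ⊗ₜ 1) = 0 ↔ _
    simp [g, g₁, map_eq_zero, Ideal.algebraMap_residueField_eq_zero]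
  · simp only [PrimeSpectrum.comap_asIdeal, Ideal.mem_comap, PrimeSpectrum.asIdeal_bot, Ideal.mem_bot]
    change g (1 ⊗ₜ t) = 0 ↔ _
    simp [g, g₂, map_eq_zero, Ideal.algebraMap_residueField_eq_zero]

theorem hasEtaleRetractions : ProEtW.HasEtaleRetractions (Lim A) := by
  classical
  intro B _ _ hff hEt
  obtain ⟨C₀, B₀, _, _, hfg, hEt₀, ⟨e⟩⟩ :=
    Algebra.Etale.exists_subalgebra_fg (R := ℤ) (A := Lim A) (B := B)
  have : Algebra.FiniteType ℤ C₀ := C₀.fg_iff_finiteType.mp hfg
  have : Algebra.FinitePresentation ℤ C₀ := Algebra.FinitePresentation.of_finiteType.mp this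
  obtain ⟨n, g', hg'⟩ := exists_lift A (A ⊗[ℤ] C₀)
    (Algebra.TensorProduct.lift (Algebra.ofId A (Lim A)) C₀.val fun _ _ => Commute.all _ _)
  let φ : C₀ →+* G A n := g'.toRingHom.comp Algebra.TensorProduct.includeRight.toRingHom
  have hφ : ∀ c : C₀, of A n (φ c) = c := fun c => by
    simpa [φ] using congr($hg' (1 ⊗ₜ c))
  have : Algebra.Smooth C₀ B₀ := inferInstance
  have : Module.Flat C₀ B₀ := Algebra.Smooth.flat C₀ B₀
  have hopen : IsOpen (Set.range (PrimeSpectrum.comap (algebraMap C₀ B₀))) :=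
    PrimeSpectrum.isOpenMap_comap_of_hasGoingDown_of_finitePresentation.isOpen_range
  obtain ⟨t, ht⟩ := PrimeSpectrum.isCompact_isOpen_iff.mp
    ⟨isCompact_range (PrimeSpectrum.continuous_comap _), hopen⟩
  have h1 : (1 : Lim A) ∈ Ideal.span ((fun a : C₀ => (a : Lim A)) '' t) := by
    rw [← Ideal.eq_top_iff_one]
    by_contra htop
    obtain ⟨P, hP, hle⟩ := Ideal.exists_le_maximal _ htop
    obtain ⟨Q, hQ⟩ := PrimeSpectrum.comap_surjective_of_faithfullyFlat (B := B) ⟨P, hP.isPrime⟩
    let ψ : B₀ →+* B := e.symm.toRingEquiv.toRingHom.comp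
      (Algebra.TensorProduct.includeRight (R := C₀) (A := Lim A)).toRingHom
    have hψ : ψ.comp (algebraMap C₀ B₀) = (algebraMap (Lim A) B).comp C₀.val.toRingHom := by
      refine RingHom.ext fun c => ?_
      change e.symm (1 ⊗ₜ algebraMap C₀ B₀ c) = algebraMap (Lim A) B c
      rw [← e.symm.commutes (c : Lim A), Algebra.algebraMap_eq_smul_one (R := C₀) (A := B₀),
        ← TensorProduct.smul_tmul, Algebra.TensorProduct.algebraMap_apply]
      congr 2
      exact (Algebra.algebraMap_eq_smul_one c).symm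
    have hmem : PrimeSpectrum.comap C₀.val.toRingHom ⟨P, hP.isPrime⟩ ∈ (PrimeSpectrum.zeroLocus (t : Set C₀))ᶜ := by
      rw [ht]
      refine ⟨PrimeSpectrum.comap ψ Q, ?_⟩
      rw [← PrimeSpectrum.comap_comp_apply, hψ, PrimeSpectrum.comap_comp_apply, hQ]
    exact hmem fun a ha => hle (Ideal.subset_span ⟨a, ha, rfl⟩)
  obtain ⟨c, hc⟩ := (Submodule.mem_span_image_finset_iff_exists_fun _).mp h1
  obtain ⟨k, hk⟩ := exists_of A (Finset.univ.image c)
  choose c' hc' using fun i => hk (Finset.mem_image_of_mem c (Finset.mem_univ i))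
  obtain ⟨m, h, hm⟩ := exists_tr_eq_zero A
    {∑ i, tr A (le_max_right n k) (c' i) * tr A (le_max_left n k) (φ (i : C₀)) - 1}
    (fun z hz => by
      rw [Finset.mem_singleton.mp hz, map_sub, map_sum, map_one, sub_eq_zero]
      refine Eq.trans ?_ hc
      exact Finset.sum_congr rfl fun i _ => by rw [map_mul, of_tr, of_tr, hc', hφ, smul_eq_mul])
  let φm : C₀ →+* G A m := (tr A h).toRingHom.comp ((tr A (le_max_left n k)).toRingHom.comp φ)
  have hφm : ∀ a : C₀, of A m (φm a) = a := fun a => by
    change of A m (tr A h (tr A _ (φ a))) = _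
    rw [of_tr, of_tr, hφ]
  letI : Algebra C₀ (G A m) := φm.toAlgebra
  have hffm : Module.FaithfullyFlat (G A m) (G A m ⊗[C₀] B₀) := by
    refine Module.FaithfullyFlat.of_comap_surjective fun y => ?_
    have hy : PrimeSpectrum.comap (algebraMap C₀ (G A m)) y ∈
        Set.range (PrimeSpectrum.comap (algebraMap C₀ B₀)) := by
      rw [← ht]
      intro hsub
      refine y.2.ne_top ((Ideal.eq_top_iff_one _).mpr ?_)
      have hm' := hm _ (Finset.mem_singleton_self _)
      rw [map_sub, map_one, sub_eq_zero, map_sum] at hm'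
      rw [← hm']
      refine Ideal.sum_mem _ fun i _ => ?_
      rw [map_mul]
      exact Ideal.mul_mem_left _ _ (hsub i.2)
    obtain ⟨q, hq⟩ := hy
    exact ⟨_, (exists_comap y q hq.symm).choose_spec.1⟩
  obtain ⟨f⟩ := EtaleCover.exists_map (A := G A m) (G A m ⊗[C₀] B₀)
  let ω : B₀ →+* Lim A := (of A (m + 1)).toRingHom.comp
    (f.toRingHom.comp Algebra.TensorProduct.includeRight.toRingHom)
  let ω' : B₀ →ₐ[C₀] Lim A :=
    { ω with
      commutes' := fun a => by
        change of A (m + 1) (f (1 ⊗ₜ algebraMap C₀ B₀ a)) = (a : Lim A)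
        rw [Algebra.algebraMap_eq_smul_one (R := C₀) (A := B₀), ← TensorProduct.smul_tmul,
          Algebra.smul_def, mul_one]
        change of A (m + 1) (f (algebraMap (G A m) _ (φm a))) = _
        rw [f.commutes]
        change of A (m + 1) (step A m (φm a)) = _
        have hs : step A m = tr A (Nat.le_succ m) := by
          rw [tr_succ A (le_refl m), tr_self, AlgHom.comp_id]
        rw [← hφm a, hs]
        exact of_tr A _ _ }
  exact ⟨(Algebra.TensorProduct.lift (AlgHom.id (Lim A) (Lim A)) ω' fun _ _ => Commute.all _ _).comp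
    e.toAlgHom⟩

end Groth.Agent.Lib.IndEtale.EtaleClosure
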