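import Groth.Agent.Lib.IndEtale.Basic
import Mathlib.Algebra.Colimit.DirectLimit
import Mathlib.FieldTheory.IsAlgClosed.AlgebraicClosure
import Mathlib.RingTheory.Flat.FaithfullyFlat.Algebra
import Mathlib.RingTheory.Spectrum.Prime.Topology
import Mathlib.RingTheory.Smooth.Flat
import Mathlib.RingTheory.Jacobson.Ring
import Mathlib.LinearAlgebra.Finsupp.Span

/-!
A faithfully flat ind-etale algebra receiving all faithfully flat etale algebras.
-/

set_option autoImplicit false

universe u

open TensorProduct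

namespace Groth.Agent.Lib.IndEtale.EtaleCover

open Crit

variable (A : Type u) [CommRing A]

/-- Presentations of the faithfully flat etale algebras. -/
def Idx : Type u :=
  Σ n : ℕ, {I : Ideal (MvPolynomial (Fin n) A) //
    Algebra.Etale A (MvPolynomial (Fin n) A ⧸ I) ∧
    Module.FaithfullyFlat A (MvPolynomial (Fin n) A ⧸ I)}

variable {A}

/-- The algebra of a presentation. -/
abbrev Idx.Alg (t : Idx A) : Type u := MvPolynomial (Fin t.1) A ⧸ t.2.1

instance (t : Idx A) : Algebra.Etale A t.Alg := t.2.2.1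
instance (t : Idx A) : Module.FaithfullyFlat A t.Alg := t.2.2.2

variable (A)

/-- All the variables. -/
abbrev Var : Type u := Σ t : Idx A, Fin t.1

variable {A} in
/-- The inclusion of the variables of a presentation. -/
noncomputable abbrev rn (t : Idx A) : MvPolynomial (Fin t.1) A →ₐ[A] MvPolynomial (Var A) A :=
  MvPolynomial.rename fun i => (⟨t, i⟩ : Var A)

/-- All the relations. -/
noncomputable def rels : Ideal (MvPolynomial (Var A) A) :=
  ⨆ t : Idx A, t.2.1.map (rn t)

/-- The cover. -/
abbrev Cover : Type u := MvPolynomial (Var A) A ⧸ rels A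

variable {A}

/-- The map from a presentation to the cover. -/
noncomputable def incl (t : Idx A) : t.Alg →ₐ[A] Cover A :=
  Ideal.Quotient.liftₐ _ ((Ideal.Quotient.mkₐ A (rels A)).comp (rn t))
    fun _ ha => Ideal.Quotient.eq_zero_iff_mem.mpr (le_iSup (fun t : Idx A =>
      t.2.1.map (rn t)) t (Ideal.mem_map_of_mem _ ha))

@[simp] lemma incl_mk (t : Idx A) (p : MvPolynomial (Fin t.1) A) :
    incl t (Ideal.Quotient.mk _ p) = Ideal.Quotient.mk _ (rn t p) := rfl

theorem exists_map (B : Type u) [CommRing B] [Algebra A B] [Module.FaithfullyFlat A B]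
    [Algebra.Etale A B] : Nonempty (B →ₐ[A] Cover A) := by
  obtain ⟨n, π, hπ, -⟩ := (inferInstance : Algebra.FinitePresentation A B).out
  let e := Ideal.quotientKerAlgEquivOfSurjective hπ
  let t : Idx A := ⟨n, RingHom.ker π, Algebra.Etale.of_equiv e.symm,
    Module.FaithfullyFlat.of_linearEquiv A B e.toLinearEquiv⟩
  exact ⟨(incl t).comp e.symm.toAlgHom⟩

/-- Finitely many presentations are dominated by one faithfully flat etale algebra over `Cover A`. -/
lemma exists_stage (l : List (Idx A)) :
    ∃ (D : Type u) (_ : CommRing D) (_ : Algebra A D) (_ : Algebra.Etale A D)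
      (v : D →ₐ[A] Cover A), ∀ t ∈ l, ∃ k : t.Alg →ₐ[A] D, v.comp k = incl t := by
  induction l with
  | nil => exact ⟨A, inferInstance, inferInstance, inferInstance, Algebra.ofId A _, by simp⟩
  | cons a l ih =>
    obtain ⟨D, _, _, _, v, hv⟩ := ih
    have : Algebra.Etale A (a.Alg ⊗[A] D) := Algebra.Etale.comp A a.Alg _
    refine ⟨a.Alg ⊗[A] D, inferInstance, inferInstance, this,
      Algebra.TensorProduct.productMap (incl a) v, fun t ht => ?_⟩
    rcases List.mem_cons.mp ht with rfl | ht
    · exact ⟨Algebra.TensorProduct.includeLeft, AlgHom.ext fun x => by simp⟩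
    · obtain ⟨k, hk⟩ := hv t ht
      refine ⟨Algebra.TensorProduct.includeRight.comp k, AlgHom.ext fun x => ?_⟩
      simpa using congr($hk x)

theorem factorsEtale : Basic.FactorsEtale A (Cover A) := by
  classical
  intro C _ _ hC g
  obtain ⟨n, π, hπ, F, hF'⟩ := hC.out
  have hF : Ideal.span (F : Set (MvPolynomial (Fin n) A)) = RingHom.ker π := hF'
  choose q hq using fun i => Ideal.Quotient.mk_surjective (g (π (MvPolynomial.X i)))
  let Φ : MvPolynomial (Fin n) A →ₐ[A] MvPolynomial (Var A) A := MvPolynomial.aeval q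
  have hΦ : (Ideal.Quotient.mkₐ A (rels A)).comp Φ = g.comp π :=
    MvPolynomial.algHom_ext fun i => by simp [Φ, hq]
  have hmem : ∀ f : F, Φ f ∈ rels A := fun f => by
    refine Ideal.Quotient.eq_zero_iff_mem.mp ?_
    rw [← Ideal.Quotient.mkₐ_eq_mk A, ← AlgHom.comp_apply, hΦ, AlgHom.comp_apply,
      RingHom.mem_ker.mp (hF ▸ Ideal.subset_span f.2 : (f : MvPolynomial (Fin n) A) ∈ RingHom.ker π),
      map_zero]
  choose S hS using fun f => Submodule.exists_finset_of_mem_iSup _ (hmem f)
  let T : Finset (Idx A) := (Finset.univ.biUnion fun i => (q i).vars.image Sigma.fst) ∪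
    Finset.univ.biUnion S
  obtain ⟨D, _, _, hD, v, hv⟩ := exists_stage T.toList
  choose k hk using fun t (ht : t ∈ T) => hv t (Finset.mem_toList.mpr ht)
  let e : MvPolynomial (Var A) A →ₐ[A] D := MvPolynomial.aeval fun x =>
    if h : x.1 ∈ T then k x.1 h (Ideal.Quotient.mk _ (MvPolynomial.X x.2)) else 0
  have he : ∀ t (ht : t ∈ T), e.comp (rn t) =
      (k t ht).comp (Ideal.Quotient.mkₐ A _) := fun t ht =>
    MvPolynomial.algHom_ext fun i => by simp [e, ht]
  have hzero : ∀ p, π p = 0 → e (Φ p) = 0 := by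
    suffices h : RingHom.ker π ≤ RingHom.ker (e.comp Φ) from fun p hp => h hp
    rw [← hF, Ideal.span_le]
    intro f hf
    change e (Φ f) = 0
    have h1 : (⨆ t ∈ S ⟨f, hf⟩, t.2.1.map (rn t)) ≤
        RingHom.ker e := by
      refine iSup₂_le fun t ht => Ideal.map_le_iff_le_comap.mpr fun a ha => ?_
      have htT : t ∈ T := Finset.mem_union_right _ (Finset.mem_biUnion.mpr ⟨_, Finset.mem_univ _, ht⟩)
      change e (rn t a) = 0
      rw [← AlgHom.comp_apply, he t htT, AlgHom.comp_apply, Ideal.Quotient.mkₐ_eq_mk,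
        Ideal.Quotient.eq_zero_iff_mem.mpr ha, map_zero]
    exact h1 (hS ⟨f, hf⟩)
  have hve : ∀ i, v (e (q i)) = Ideal.Quotient.mk _ (q i) := fun i => by
    refine MvPolynomial.hom_congr_vars (f₁ := v.toRingHom.comp e.toRingHom)
      (f₂ := Ideal.Quotient.mk (rels A)) ?_ (fun x hx _ => ?_) rfl
    · ext a
      simp
      rfl
    · have ht : x.1 ∈ T := Finset.mem_union_left _ (Finset.mem_biUnion.mpr
        ⟨i, Finset.mem_univ _, Finset.mem_image_of_mem _ hx⟩)
      simp only [RingHom.coe_comp, AlgHom.toRingHom_eq_coe, RingHom.coe_coe, Function.comp_apply,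
        e, MvPolynomial.aeval_X, dif_pos ht]
      rw [← AlgHom.comp_apply, hk x.1 ht, incl_mk, MvPolynomial.rename_X]
  have hz : ∀ a ∈ RingHom.ker π, (e.comp Φ) a = 0 := fun a ha => hzero a ha
  let u : C →ₐ[A] D := (Ideal.Quotient.liftₐ (RingHom.ker π) (e.comp Φ) hz).comp
    (Ideal.quotientKerAlgEquivOfSurjective hπ).symm.toAlgHom
  refine ⟨D, inferInstance, inferInstance, hD, u, v, AlgHom.ext fun c => ?_⟩
  obtain ⟨p, rfl⟩ := hπ c
  have hu : u (π p) = e (Φ p) := by
    change Ideal.Quotient.liftₐ _ _ hz ((Ideal.quotientKerAlgEquivOfSurjective hπ).symm (π p)) = _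
    rw [show π p = Ideal.quotientKerAlgEquivOfSurjective hπ (Ideal.Quotient.mk _ p) from rfl,
      AlgEquiv.symm_apply_apply]
    rfl
  rw [AlgHom.comp_apply, hu, ← AlgHom.comp_apply g, ← hΦ]
  exact congr($(MvPolynomial.algHom_ext (f := (v.comp e).comp Φ)
    (g := (Ideal.Quotient.mkₐ A (rels A)).comp Φ) fun i => by simp [Φ, hve]) p)

/-- A nonzero algebra of finite type over a field has a point in the algebraic closure. -/
lemma exists_point_field (κ F : Type u) [Field κ] [CommRing F] [Nontrivial F] [Algebra κ F]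
    [Algebra.FiniteType κ F] : Nonempty (F →ₐ[κ] AlgebraicClosure κ) := by
  obtain ⟨M, hM⟩ := Ideal.exists_maximal F
  letI := Ideal.Quotient.field M
  have : Algebra.FiniteType κ (F ⧸ M) := .of_surjective (Ideal.Quotient.mkₐ κ M)
    (Ideal.Quotient.mkₐ_surjective κ M)
  have : Module.Finite κ (F ⧸ M) := finite_of_finite_type_of_isJacobsonRing κ _
  let ψ : F ⧸ M →ₐ[κ] AlgebraicClosure κ := IsAlgClosed.lift
  exact ⟨ψ.comp (Ideal.Quotient.mkₐ κ M)⟩

/-- A faithfully flat etale algebra has a point over every prime in any algebraically closed field. -/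
lemma exists_point (x : PrimeSpectrum A) (t : Idx A) :
    Nonempty (t.Alg →ₐ[A] AlgebraicClosure x.asIdeal.ResidueField) := by
  obtain ⟨ψ⟩ := exists_point_field x.asIdeal.ResidueField (x.asIdeal.ResidueField ⊗[A] t.Alg)
  exact ⟨(ψ.restrictScalars A).comp Algebra.TensorProduct.includeRight⟩

theorem comap_surjective :
    Function.Surjective (PrimeSpectrum.comap (algebraMap A (Cover A))) := by
  intro x
  let K := AlgebraicClosure x.asIdeal.ResidueField
  let p : ∀ t : Idx A, t.Alg →ₐ[A] K := fun t => (exists_point x t).some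
  let φ : MvPolynomial (Var A) A →ₐ[A] K :=
    MvPolynomial.aeval fun y => p y.1 (Ideal.Quotient.mk _ (MvPolynomial.X y.2))
  have hφ : rels A ≤ RingHom.ker φ := by
    refine iSup_le fun t => Ideal.map_le_iff_le_comap.mpr fun a ha => ?_
    have he : φ.comp (rn t) = (p t).comp (Ideal.Quotient.mkₐ A _) :=
      MvPolynomial.algHom_ext fun i => by simp [φ]
    change φ (rn t a) = 0
    rw [← AlgHom.comp_apply, he, AlgHom.comp_apply, Ideal.Quotient.mkₐ_eq_mk,
      Ideal.Quotient.eq_zero_iff_mem.mpr ha, map_zero]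
  let ψ : Cover A →ₐ[A] K := Ideal.Quotient.liftₐ _ φ hφ
  refine ⟨PrimeSpectrum.comap ψ.toRingHom ⊥, ?_⟩
  rw [← PrimeSpectrum.comap_comp_apply, show ψ.toRingHom.comp (algebraMap A (Cover A)) = algebraMap A K from ψ.comp_algebraMap,
    IsScalarTower.algebraMap_eq A x.asIdeal.ResidueField K]
  ext a
  simp [Ideal.algebraMap_residueField_eq_zero]

theorem faithfullyFlat : Module.FaithfullyFlat A (Cover A) := by
  have : Module.Flat A (Cover A) := Basic.flat factorsEtale
  exact Module.FaithfullyFlat.of_comap_surjective comap_surjective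

end Groth.Agent.Lib.IndEtale.EtaleCover
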