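import Groth.Agent.Lib.IndEtale.Zariski

/-!
Element-wise criterion for "identifies local rings" and its closure properties.
-/

set_option autoImplicit false

universe u

namespace Groth.Agent.Lib.IndEtale.Ident

open Crit

variable (A : Type u) {B : Type u} [CommRing A] [CommRing B] [Algebra A B]

/-- `A_p → B_q` is bijective, written with elements. -/
def IdentAt (q : Ideal B) : Prop :=
  (∀ a : A, (∃ s ∉ q, s * algebraMap A B a = 0) → ∃ c, algebraMap A B c ∉ q ∧ c * a = 0) ∧
  (∀ b : B, ∃ a c : A, algebraMap A B c ∉ q ∧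
    ∃ s ∉ q, s * (algebraMap A B c * b - algebraMap A B a) = 0)

variable {A}

theorem bijective_iff (q : Ideal B) [q.IsPrime] :
    Function.Bijective (Localization.localRingHom (q.comap (algebraMap A B)) q (algebraMap A B) rfl)
      ↔ IdentAt A q := by
  set p := q.comap (algebraMap A B)
  set F := Localization.localRingHom p q (algebraMap A B) rfl
  constructor
  · intro hF
    refine ⟨fun a ⟨s, hs, hsa⟩ => ?_, fun b => ?_⟩
    · have : F (algebraMap A _ a) = 0 := by
        rw [Localization.localRingHom_to_map]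
        exact (IsLocalization.map_eq_zero_iff q.primeCompl _ _).mpr ⟨⟨s, hs⟩, hsa⟩
      rw [← map_zero F] at this
      obtain ⟨⟨c, hc⟩, hca⟩ := (IsLocalization.map_eq_zero_iff p.primeCompl _ _).mp (hF.1 this)
      exact ⟨c, hc, hca⟩
    · obtain ⟨x, hx⟩ := hF.2 (algebraMap B _ b)
      obtain ⟨a, c, rfl⟩ := IsLocalization.exists_mk'_eq p.primeCompl x
      rw [Localization.localRingHom_mk', IsLocalization.mk'_eq_iff_eq_mul, ← map_mul,
        IsLocalization.eq_iff_exists q.primeCompl] at hx
      obtain ⟨s, hs⟩ := hx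
      exact ⟨a, c, c.2, s, s.2, by rw [mul_sub, sub_eq_zero, mul_comm (algebraMap A B c) b]; exact hs.symm⟩
  · intro ⟨h1, h2⟩
    constructor
    · rw [injective_iff_map_eq_zero]
      intro x hx
      obtain ⟨a, c, rfl⟩ := IsLocalization.exists_mk'_eq p.primeCompl x
      rw [Localization.localRingHom_mk', IsLocalization.mk'_eq_zero_iff] at hx
      obtain ⟨s, hs⟩ := hx
      obtain ⟨d, hd, hda⟩ := h1 a ⟨s, s.2, hs⟩
      exact (IsLocalization.mk'_eq_zero_iff _ _).mpr ⟨⟨d, hd⟩, hda⟩
    · intro y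
      obtain ⟨b, t, rfl⟩ := IsLocalization.exists_mk'_eq q.primeCompl y
      obtain ⟨a₁, c₁, hc₁, u₁, hu₁, e₁⟩ := h2 b
      obtain ⟨a₂, c₂, hc₂, u₂, hu₂, e₂⟩ := h2 t
      have ha₂ : algebraMap A B a₂ ∉ q := fun h => by
        have : u₂ * (algebraMap A B c₂ * t) ∈ q := by
          rw [show u₂ * (algebraMap A B c₂ * t) = u₂ * algebraMap A B a₂ by linear_combination e₂]
          exact q.mul_mem_left _ h
        exact (Ideal.IsPrime.mul_notMem ‹_› hu₂ (Ideal.IsPrime.mul_notMem ‹_› hc₂ t.2)) this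
      refine ⟨IsLocalization.mk' _ (a₁ * c₂) (⟨c₁ * a₂, p.primeCompl.mul_mem hc₁ ha₂⟩ : p.primeCompl), ?_⟩
      rw [Localization.localRingHom_mk', IsLocalization.mk'_eq_iff_eq, IsLocalization.eq_iff_exists q.primeCompl]
      refine ⟨⟨u₁ * u₂, q.primeCompl.mul_mem hu₁ hu₂⟩, ?_⟩
      simp only [map_mul]
      linear_combination (-u₂ * algebraMap A B c₂ * (t : B)) * e₁ +
        (u₁ * algebraMap A B c₁ * b) * e₂

theorem identifiesLocalRings_iff :
    EtPBC.IdentifiesLocalRings A B ↔ ∀ q : PrimeSpectrum B, IdentAt A q.asIdeal :=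
  forall_congr' fun q => bijective_iff q.asIdeal

section

variable {C : Type u} [CommRing C] [Algebra A C] [Algebra B C] [IsScalarTower A B C]
  {q : Ideal C} [q.IsPrime]

theorem comp (h1 : IdentAt A (q.comap (algebraMap B C))) (h2 : IdentAt B q) : IdentAt A q := by
  constructor
  · intro a ha
    rw [IsScalarTower.algebraMap_apply A B C] at ha
    obtain ⟨cb, hcb, hcba⟩ := h2.1 _ ha
    obtain ⟨c, hc, hca⟩ := h1.1 a ⟨cb, hcb, hcba⟩
    exact ⟨c, by rwa [IsScalarTower.algebraMap_apply A B C], hca⟩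
  · intro x
    obtain ⟨b, c, hc, s, hs, e⟩ := h2.2 x
    obtain ⟨a₁, c₁, hc₁, u₁, hu₁, e₁⟩ := h1.2 b
    obtain ⟨a₂, c₂, hc₂, u₂, hu₂, e₂⟩ := h1.2 c
    have e₁' := congr_arg (algebraMap B C) e₁
    have e₂' := congr_arg (algebraMap B C) e₂
    simp only [map_mul, map_sub, map_zero, ← IsScalarTower.algebraMap_apply] at e₁' e₂'
    rw [Ideal.mem_comap, ← IsScalarTower.algebraMap_apply] at hc₁ hc₂
    rw [Ideal.mem_comap] at hu₁ hu₂
    have ha₂ : algebraMap A C a₂ ∉ q := fun h => by
      have : algebraMap B C u₂ * (algebraMap A C c₂ * algebraMap B C c) ∈ q := by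
        rw [show algebraMap B C u₂ * (algebraMap A C c₂ * algebraMap B C c) =
          algebraMap B C u₂ * algebraMap A C a₂ by linear_combination e₂']
        exact q.mul_mem_left _ h
      exact (Ideal.IsPrime.mul_notMem ‹_› hu₂ (Ideal.IsPrime.mul_notMem ‹_› hc₂ hc)) this
    refine ⟨a₁ * c₂, c₁ * a₂, by rw [map_mul]; exact Ideal.IsPrime.mul_notMem ‹_› hc₁ ha₂,
      s * (algebraMap B C u₁ * algebraMap B C u₂),
      Ideal.IsPrime.mul_notMem ‹_› hs (Ideal.IsPrime.mul_notMem ‹_› hu₁ hu₂), ?_⟩
    simp only [map_mul]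
    linear_combination
      (algebraMap B C u₁ * algebraMap B C u₂ * algebraMap A C c₁ * algebraMap A C c₂) * e +
      (s * algebraMap B C u₂ * algebraMap A C c₂) * e₁' +
      (-s * algebraMap B C u₁ * algebraMap A C c₁ * x) * e₂'

theorem cancel (h1 : IdentAt A (q.comap (algebraMap B C))) (h : IdentAt A q) : IdentAt B q := by
  constructor
  · rintro x ⟨s, hs, hsx⟩
    obtain ⟨a, c, hc, u, hu, e⟩ := h1.2 x
    have e' := congr_arg (algebraMap B C) e
    simp only [map_mul, map_sub, map_zero, ← IsScalarTower.algebraMap_apply] at e'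
    obtain ⟨c', hc', hca⟩ := h.1 a ⟨s * algebraMap B C u, Ideal.IsPrime.mul_notMem ‹_› hs hu,
      by linear_combination (-s) * e' + algebraMap B C u * algebraMap A C c * hsx⟩
    have hca' := congr_arg (algebraMap A B) hca
    rw [map_mul, map_zero] at hca'
    rw [Ideal.mem_comap, ← IsScalarTower.algebraMap_apply] at hc
    refine ⟨u * algebraMap A B c' * algebraMap A B c, ?_,
      by linear_combination (algebraMap A B c') * e + u * hca'⟩
    simp only [map_mul, ← IsScalarTower.algebraMap_apply]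
    exact Ideal.IsPrime.mul_notMem ‹_› (Ideal.IsPrime.mul_notMem ‹_› hu hc') hc
  · intro y
    obtain ⟨a, c, hc, s, hs, e⟩ := h.2 y
    exact ⟨algebraMap A B a, algebraMap A B c, by rwa [← IsScalarTower.algebraMap_apply],
      s, hs, by simpa only [← IsScalarTower.algebraMap_apply] using e⟩

/-- If `A → C` and `B → C` identify local rings at `q` then so does `A → B` below `q`. -/
theorem of_comp (h : IdentAt A q) (h2 : IdentAt B q) : IdentAt A (q.comap (algebraMap B C)) := by
  constructor
  · rintro a ⟨s, hs, hsa⟩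
    have e := congr_arg (algebraMap B C) hsa
    rw [map_mul, map_zero, ← IsScalarTower.algebraMap_apply] at e
    obtain ⟨c, hc, hca⟩ := h.1 a ⟨_, hs, e⟩
    exact ⟨c, by rwa [Ideal.mem_comap, ← IsScalarTower.algebraMap_apply], hca⟩
  · intro b
    obtain ⟨a, c, hc, s, hs, e⟩ := h.2 (algebraMap B C b)
    obtain ⟨u, hu, hu'⟩ := h2.1 (algebraMap A B c * b - algebraMap A B a) ⟨s, hs, by
      simpa only [map_mul, map_sub, ← IsScalarTower.algebraMap_apply] using e⟩
    exact ⟨a, c, by rwa [Ideal.mem_comap, ← IsScalarTower.algebraMap_apply], u, hu, hu'⟩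

end

/-- Localizations identify local rings. -/
theorem of_isLocalization (S : Submonoid A) [IsLocalization S B] (q : Ideal B) [q.IsPrime] :
    IdentAt A q := by
  have hS : ∀ m : S, algebraMap A B m ∉ q := fun m h =>
    Ideal.IsPrime.ne_top ‹_› (Ideal.eq_top_of_isUnit_mem _ h (IsLocalization.map_units B m))
  constructor
  · rintro a ⟨s, hs, hsa⟩
    obtain ⟨b, m, rfl⟩ := IsLocalization.exists_mk'_eq S s
    have hb : algebraMap A B b ∉ q := by
      rw [← IsLocalization.mk'_spec B b m]
      exact Ideal.IsPrime.mul_notMem ‹_› hs (hS m)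
    have : algebraMap A B (b * a) = 0 := by
      rw [map_mul, ← IsLocalization.mk'_spec B b m, mul_right_comm, hsa, zero_mul]
    obtain ⟨m', hm'⟩ := (IsLocalization.map_eq_zero_iff S B _).mp this
    exact ⟨m' * b, by rw [map_mul]; exact Ideal.IsPrime.mul_notMem ‹_› (hS m') hb,
      by rw [mul_assoc]; exact hm'⟩
  · intro x
    obtain ⟨b, m, rfl⟩ := IsLocalization.exists_mk'_eq S x
    exact ⟨b, m, hS m, 1, fun h => Ideal.IsPrime.ne_top ‹_› ((Ideal.eq_top_iff_one _).mpr h),
      by rw [IsLocalization.mk'_spec', sub_self, mul_zero]⟩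

theorem of_isLocalIso [Algebra.IsLocalIso A B] (q : Ideal B) [q.IsPrime] : IdentAt A q := by
  obtain ⟨g, hg, hstd⟩ :=
    Algebra.IsLocalIso.exists_notMem_isStandardOpenImmersion (R := A) q
  obtain ⟨r, _⟩ := Algebra.IsStandardOpenImmersion.exists_away A (Localization.Away g)
  have : ⟨q, inferInstance⟩ ∈
      Set.range (PrimeSpectrum.comap (algebraMap B (Localization.Away g))) := by
    rw [PrimeSpectrum.localization_away_comap_range (Localization.Away g) g]
    exact hg
  obtain ⟨Q, hQ⟩ := this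
  obtain rfl : Q.asIdeal.comap (algebraMap B (Localization.Away g)) = q := congr($(hQ).asIdeal)
  exact of_comp (of_isLocalization (Submonoid.powers r) Q.asIdeal)
    (of_isLocalization (Submonoid.powers g) Q.asIdeal)

theorem of_factorsZar (h : Zariski.FactorsZar A B) (q : Ideal B) [q.IsPrime] : IdentAt A q := by
  constructor
  · rintro a ⟨s, hs, hsa⟩
    let r : Polynomial A := Polynomial.X * Polynomial.C a
    have hr : ∀ z ∈ Ideal.span {r}, (Polynomial.aeval (R := A) s) z = 0 := by
      intro z hz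
      obtain ⟨c, rfl⟩ := Ideal.mem_span_singleton.mp hz
      simp only [r, map_mul, Polynomial.aeval_X, Polynomial.aeval_C]
      rw [hsa, zero_mul]
    have : Algebra.FinitePresentation A (Polynomial A ⧸ Ideal.span {r}) := .quotient ⟨{r}, by simp⟩
    obtain ⟨E, _, _, hE, u, v, huv⟩ := h _ this (Ideal.Quotient.liftₐ _ (Polynomial.aeval s) hr)
    have : Algebra.IsLocalIso A E := hE
    let e := u (Ideal.Quotient.mk _ Polynomial.X)
    have hve : v e = s := by
      exact (congr($huv (Ideal.Quotient.mk (Ideal.span {r}) Polynomial.X))).trans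
        (Polynomial.aeval_X s)
    have hea : e * algebraMap A E a = 0 := by
      rw [← u.commutes, ← map_mul, ← Ideal.Quotient.mk_algebraMap, ← map_mul,
        Ideal.Quotient.eq_zero_iff_mem.mpr, map_zero]
      exact Ideal.subset_span (Set.mem_singleton _)
    obtain ⟨c, hc, hca⟩ := (of_isLocalIso (A := A) (q.comap v.toRingHom)).1 a
      ⟨e, fun he => hs (hve ▸ he), hea⟩
    exact ⟨c, fun hc' => hc (by simpa using hc'), hca⟩
  · intro b
    obtain ⟨E, _, _, hE, u, v, huv⟩ := h (Polynomial A) inferInstance (Polynomial.aeval b)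
    have : Algebra.IsLocalIso A E := hE
    obtain ⟨a, c, hc, s, hs, e⟩ := (of_isLocalIso (A := A) (q.comap v.toRingHom)).2 (u Polynomial.X)
    have e' := congr_arg v e
    have hb : v (u Polynomial.X) = b := by simpa using congr($huv Polynomial.X)
    simp only [map_mul, map_sub, map_zero, AlgHom.commutes, hb] at e'
    exact ⟨a, c, fun hc' => hc (by simpa using hc'), v s, hs, e'⟩

theorem identifiesLocalRings_of_isIndZariski (h : EtPBC.IsIndZariski A B) :
    EtPBC.IdentifiesLocalRings A B :=
  identifiesLocalRings_iff.mpr fun q => of_factorsZar (Zariski.factors h) q.asIdeal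

end Groth.Agent.Lib.IndEtale.Ident
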