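import Groth.Agent.Lib.IndEtale.BigTensor
import Groth.Agent.Lib.IndEtale.Zariski
import Groth.Agent.Lib.Henselian.EtaleLift
import Groth.Agent.Lib.Henselian.EtaleHom
import Groth.Agent.Lib.WeaklyEt.Cancel

/-!
Ind-etale algebras over a quotient lift.
-/

set_option autoImplicit false

universe u

open TensorProduct

namespace Groth.Agent.Lib.IndEtale.Lift

open Crit

theorem exists_lift (A : Type u) [CommRing A] (I : Ideal A) (Cb : Type u) [CommRing Cb]
    [Algebra (A ⧸ I) Cb] (h : EtPBC.IsIndEtale (A ⧸ I) Cb) :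
    ∃ (C : Type u) (_ : CommRing C) (_ : Algebra A C),
      EtPBC.IsIndEtale A C ∧ Nonempty ((C ⧸ I.map (algebraMap A C)) ≃ₐ[A ⧸ I] Cb) := by
  classical
  letI : Algebra A Cb := Algebra.compHom Cb (Ideal.Quotient.mk I)
  haveI : IsScalarTower A (A ⧸ I) Cb := .of_algebraMap_eq fun _ => rfl
  let W := BigTensor.Cover A Cb
  let π : W →ₐ[A] Cb := BigTensor.toB
  have hsurj : Function.Surjective π := fun b => by
    obtain ⟨E, _, _, hE, v, hv⟩ := Basic.exists_lift (Basic.factors h) {b}
    have : Algebra.Etale (A ⧸ I) E := hE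
    letI : Algebra A E := Algebra.compHom E (Ideal.Quotient.mk I)
    haveI : IsScalarTower A (A ⧸ I) E := .of_algebraMap_eq fun _ => rfl
    obtain ⟨L, _, _, hL, ψ, hψ, -⟩ := Henselian.EtaleLift.exists_etale_lift I E
    obtain ⟨e, he⟩ := hv (by simp : b ∈ (↑({b} : Finset Cb) : Set Cb))
    obtain ⟨l, rfl⟩ := hψ e
    exact BigTensor.range_le L ((v.restrictScalars A).comp ψ) ⟨l, he⟩
  let Wb := (A ⧸ I) ⊗[A] W
  let πb : Wb →ₐ[A ⧸ I] Cb :=
    Algebra.TensorProduct.lift (Algebra.ofId (A ⧸ I) Cb) π fun _ _ => Commute.all _ _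
  letI : Algebra Wb Cb := πb.toRingHom.toAlgebra
  haveI : IsScalarTower (A ⧸ I) Wb Cb :=
    IsScalarTower.of_algebraMap_eq (R := A ⧸ I) (S := Wb) (A := Cb) fun a => (πb.commutes a).symm
  have hW : EtPBC.IsIndEtale A W := Basic.of_factors BigTensor.factorsEtale
  haveI : Algebra.WeaklyEtale (A ⧸ I) Wb := Basic.weaklyEtale (Basic.baseChange _ hW)
  haveI : Algebra.WeaklyEtale (A ⧸ I) Cb := Basic.weaklyEtale h
  haveI : Algebra.WeaklyEtale Wb Cb := WeaklyEt.Cancel.weaklyEtale (A ⧸ I) Wb Cb
  have hπb : ∀ w : W, πb (1 ⊗ₜ w) = π w := fun w =>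
    (Algebra.TensorProduct.lift_tmul _ _ _ _ _).trans (by rw [map_one, one_mul])
  have hkerr : ∀ x : W, (1 : A ⧸ I) ⊗ₜ[A] x = 0 → x ∈ I.map (algebraMap A W) := fun x hx => by
    have h1 := Henselian.EtaleHom.ker_includeRight (A := A) (K := A ⧸ I) (B := W)
      Ideal.Quotient.mk_surjective
    rw [Ideal.Quotient.algebraMap_eq, Ideal.mk_ker] at h1
    exact h1.le hx
  have hrep : ∀ z : Wb, ∃ w : W, (1 : A ⧸ I) ⊗ₜ[A] w = z := fun z => by
    induction z using TensorProduct.induction_on with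
    | zero => exact ⟨0, TensorProduct.tmul_zero _ _⟩
    | add p q hp hq =>
      obtain ⟨b, rfl⟩ := hp
      obtain ⟨b', rfl⟩ := hq
      exact ⟨b + b', TensorProduct.tmul_add _ _ _⟩
    | tmul a b =>
      obtain ⟨a, rfl⟩ := Ideal.Quotient.mk_surjective a
      refine ⟨a • b, ?_⟩
      rw [← TensorProduct.smul_tmul, ← Algebra.algebraMap_eq_smul_one]
      rfl
  have hpure : ∀ x : W, π x = 0 → ∃ a : W, π a = 1 ∧ a * x ∈ I.map (algebraMap A W) := by
    intro x hx
    have h0 : ∑ i : Fin 1, (fun _ => ((1 : A ⧸ I) ⊗ₜ[A] x : Wb)) i • (fun _ : Fin 1 => (1 : Cb)) i = 0 := by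
      simp [Algebra.smul_def, RingHom.algebraMap_toAlgebra, hπb, hx]
    obtain ⟨k, a, y, hy, ha⟩ := Module.Flat.isTrivialRelation_of_sum_smul_eq_zero (R := Wb) (M := Cb) h0
    choose yl hyl using fun j => hsurj (y j)
    obtain ⟨w, hw⟩ := hrep (∑ j, a 0 j * (1 ⊗ₜ yl j))
    refine ⟨w, ?_, hkerr _ ?_⟩
    · rw [← hπb, hw, map_sum]
      refine Eq.trans ?_ (hy 0).symm
      refine Finset.sum_congr rfl fun j _ => ?_
      rw [map_mul, hπb, hyl]
      rfl
    · have h1 : ((1 : A ⧸ I) ⊗ₜ[A] (w * x)) = ((1 : A ⧸ I) ⊗ₜ[A] w) * ((1 : A ⧸ I) ⊗ₜ[A] x) := by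
        simp
      rw [h1, hw]
      refine (Finset.sum_mul Finset.univ (fun j => a 0 j * ((1 : A ⧸ I) ⊗ₜ[A] yl j : Wb))
        ((1 : A ⧸ I) ⊗ₜ[A] x)).trans (Finset.sum_eq_zero fun j _ => ?_)
      have h2 := ha j
      simp only [Fin.sum_univ_one] at h2
      have key : ∀ p q r : Wb, r * p = 0 → p * q * r = 0 := fun p q r h => by
        linear_combination q * h
      exact key _ _ _ h2
  let S : Submonoid W :=
    { carrier := {a | π a = 1}
      one_mem' := map_one π
      mul_mem' := fun {a b} (ha : π a = 1) (hb : π b = 1) => by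
        change π (a * b) = 1
        rw [map_mul, ha, hb, one_mul] }
  let π' : (Localization S) →ₐ[A] Cb := IsLocalization.liftAlgHom (M := S) (S := (Localization S)) (f := π) fun a => by
    rw [show π (a : W) = 1 from a.2]
    exact isUnit_one
  have hπ' : ∀ w, π' (algebraMap W (Localization S) w) = π w := fun w => by simp [π']
  have hπ's : Function.Surjective π' := fun b => by
    obtain ⟨w, rfl⟩ := hsurj b
    exact ⟨_, hπ' w⟩
  haveI : (I.map (algebraMap A (Localization S))).IsTwoSided :=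
    ⟨fun b ha => (mul_comm b _) ▸ Ideal.mul_mem_left _ b ha⟩
  have hker : RingHom.ker π'.toRingHom = I.map (algebraMap A (Localization S)) := by
    refine le_antisymm (fun z hz => ?_) (Ideal.map_le_iff_le_comap.mpr fun a ha => ?_)
    · obtain ⟨x, s, rfl⟩ := IsLocalization.exists_mk'_eq S z
      have hx : π x = 0 := by
        have h1 := congrArg π' (IsLocalization.mk'_spec (Localization S) x s)
        rw [map_mul, hπ', hπ', show π' (IsLocalization.mk' (Localization S) x s) = 0 from hz, zero_mul] at h1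
        exact h1.symm
      obtain ⟨a, ha, hax⟩ := hpure x hx
      have h2 : algebraMap W (Localization S) (a * x) ∈ I.map (algebraMap A (Localization S)) := by
        rw [IsScalarTower.algebraMap_eq A W (Localization S), ← Ideal.map_map]
        exact Ideal.mem_map_of_mem _ hax
      rw [map_mul] at h2
      have hu : IsUnit (algebraMap W (Localization S) a) := IsLocalization.map_units (Localization S) (⟨a, ha⟩ : S)
      have h3 : algebraMap W (Localization S) x ∈ I.map (algebraMap A (Localization S)) :=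
        (Ideal.unit_mul_mem_iff_mem _ hu).mp h2
      rw [IsLocalization.mk'_eq_mul_mk'_one]
      exact Ideal.mul_mem_right _ _ h3
    · change π' (algebraMap A (Localization S) a) = 0
      rw [π'.commutes, IsScalarTower.algebraMap_apply A (A ⧸ I) Cb, Ideal.Quotient.algebraMap_eq,
        Ideal.Quotient.eq_zero_iff_mem.mpr ha, map_zero]
  refine ⟨(Localization S), inferInstance, inferInstance, Basic.of_factors
    (Zariski.factors_localization (Basic.impliesFP A) Zariski.stableAway_etale
      BigTensor.factorsEtale S (Localization S)), ⟨AlgEquiv.extendScalarsOfSurjective Ideal.Quotient.mk_surjective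
    ((Ideal.quotientEquivAlgOfEq A hker.symm).trans
      (Ideal.quotientKerAlgEquivOfSurjective hπ's))⟩⟩

end Groth.Agent.Lib.IndEtale.Lift
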