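import Groth.Agent.Lib.IndEtale.Lift
import Groth.Agent.Lib.WLocal.Contract
import Mathlib.Algebra.Category.Ring.Constructions

/-!
Lifting weakly etale w-contractible algebras along surjections.
-/

set_option autoImplicit false

universe u

open CategoryTheory CategoryTheory.Limits

namespace Groth.Agent.Lib.IndEtale.LiftSurj

open Crit

/-- A retract of an ind-etale algebra is ind-etale. -/
theorem of_retract {R C D : Type u} [CommRing R] [CommRing C] [Algebra R C] [CommRing D]
    [Algebra R D] (hD : EtPBC.IsIndEtale R D) (s : C →ₐ[R] D) (r : D →ₐ[R] C)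
    (hrs : r.comp s = AlgHom.id R C) : EtPBC.IsIndEtale R C := by
  refine Basic.of_factors fun P _ _ hP g => ?_
  obtain ⟨E, _, _, hE, u, v, huv⟩ := Basic.factors hD P hP (s.comp g)
  refine ⟨E, inferInstance, inferInstance, hE, u, r.comp v, ?_⟩
  rw [AlgHom.comp_assoc, huv, ← AlgHom.comp_assoc, hrs, AlgHom.id_comp]

/-- A weakly etale w-contractible algebra is ind-etale. -/
theorem isIndEtale_of_isWContractible (R C : Type u) [CommRing R] [CommRing C] [Algebra R C]
    [Algebra.WeaklyEtale R C] (hC : EtPBC.IsWContractible C) : EtPBC.IsIndEtale R C := by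
  obtain ⟨D, _, _, _, _, hff, hCD, hRD⟩ := WLocal.Contract.exists_indEtale_cover R C
  obtain ⟨r⟩ := hC D hff (Basic.weaklyEtale hCD)
  refine of_retract hRD (IsScalarTower.toAlgHom R C D) (r.restrictScalars R) (AlgHom.ext fun c => ?_)
  exact r.commutes c

/-- Weakly etale w-contractible algebras lift along surjections, as pushouts. -/
theorem exists_lift {A R C : CommRingCat.{u}} (q : A ⟶ R) (hq : Function.Surjective q.hom)
    (f : R ⟶ C) (hf : @Algebra.WeaklyEtale R C _ _ f.hom.toAlgebra)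
    (hC : EtPBC.IsWContractible C) :
    ∃ (B : CommRingCat.{u}) (g : A ⟶ B) (ψ : B ⟶ C),
      @Algebra.WeaklyEtale A B _ _ g.hom.toAlgebra ∧ IsPushout q g f ψ := by
  let I : Ideal A := RingHom.ker q.hom
  let e : (A ⧸ I) ≃+* R := RingHom.quotientKerEquivOfSurjective hq
  letI : Algebra R C := f.hom.toAlgebra
  letI : Algebra (A ⧸ I) R := e.toRingHom.toAlgebra
  letI : Algebra (A ⧸ I) C := (f.hom.comp e.toRingHom).toAlgebra
  haveI : IsScalarTower (A ⧸ I) R C := .of_algebraMap_eq fun _ => rfl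
  haveI : Algebra.Etale (A ⧸ I) R := by
    rw [← RingHom.etale_algebraMap]
    exact RingHom.Etale.of_bijective e.bijective
  haveI : Algebra.WeaklyEtale R C := hf
  haveI : Algebra.WeaklyEtale (A ⧸ I) C := Algebra.WeaklyEtale.trans (A ⧸ I) R C
  obtain ⟨B, _, _, hB, ⟨φ⟩⟩ := Lift.exists_lift A I C (isIndEtale_of_isWContractible _ _ hC)
  let ψ : B →+* C := φ.toRingEquiv.toRingHom.comp (Ideal.Quotient.mk (I.map (algebraMap A B)))
  have hψ : Function.Surjective ψ := φ.surjective.comp Ideal.Quotient.mk_surjective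
  have hcomp : ∀ a, ψ (algebraMap A B a) = f.hom (q.hom a) := fun a => φ.commutes (Ideal.Quotient.mk I a)
  have hker : RingHom.ker ψ = I.map (algebraMap A B) := by
    ext b
    change φ (Ideal.Quotient.mk _ b) = 0 ↔ _
    rw [map_eq_zero_iff φ φ.injective, Ideal.Quotient.eq_zero_iff_mem]
  refine ⟨CommRingCat.of B, CommRingCat.ofHom (algebraMap A B), CommRingCat.ofHom ψ, ?_, ?_⟩
  · have h1 : (CommRingCat.ofHom (algebraMap A B)).hom.toAlgebra = ‹Algebra A B› :=
      Algebra.algebra_ext _ _ fun _ => rfl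
    rw [h1]
    exact Basic.weaklyEtale hB
  have w : q ≫ f = CommRingCat.ofHom (algebraMap A B) ≫ CommRingCat.ofHom ψ :=
    CommRingCat.hom_ext (RingHom.ext fun a => (hcomp a).symm)
  have hdesc : ∀ s : PushoutCocone q (CommRingCat.ofHom (algebraMap A B)),
      RingHom.ker ψ ≤ RingHom.ker s.inr.hom := fun s => by
    rw [hker, Ideal.map_le_iff_le_comap]
    intro a ha
    change s.inr.hom (algebraMap A B a) = 0
    have h1 : s.inl.hom (q.hom a) = s.inr.hom (algebraMap A B a) :=
      congr($(s.condition).hom a)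
    rw [← h1, show q.hom a = 0 from ha, map_zero]
  refine ⟨⟨w⟩, ⟨PushoutCocone.IsColimit.mk w
    (fun s => CommRingCat.ofHom (RingHom.liftOfSurjective ψ hψ ⟨s.inr.hom, hdesc s⟩))
    (fun s => ?_) (fun s => ?_) (fun s m _ hm => ?_)⟩⟩
  · refine CommRingCat.hom_ext (RingHom.ext fun r => ?_)
    obtain ⟨a, rfl⟩ := hq r
    change RingHom.liftOfSurjective ψ hψ ⟨s.inr.hom, hdesc s⟩ (f.hom (q.hom a)) = s.inl.hom (q.hom a)
    rw [← hcomp, RingHom.liftOfRightInverse_comp_apply]
    exact congr($(s.condition).hom a).symm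
  · exact CommRingCat.hom_ext (RingHom.liftOfRightInverse_comp _ _ _ _)
  · refine CommRingCat.hom_ext (RingHom.ext fun c => ?_)
    obtain ⟨b, rfl⟩ := hψ c
    change m.hom (ψ b) = RingHom.liftOfSurjective ψ hψ ⟨s.inr.hom, hdesc s⟩ (ψ b)
    rw [RingHom.liftOfRightInverse_comp_apply]
    exact congr($(hm).hom b)

end Groth.Agent.Lib.IndEtale.LiftSurj
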