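import Groth.Agent.Lib.WeaklyEt.Flat
import Mathlib.Algebra.Category.Ring.Constructions
import Mathlib.RingTheory.Localization.Basic
import Mathlib.RingTheory.Flat.EquationalCriterion

/-!
Localising along a closed subscheme which is a flat closed subscheme of a quotient.
-/

set_option autoImplicit false

universe u

open CategoryTheory CategoryTheory.Limits

namespace Groth.Agent.Lib.IndEtale.LocPushout

/-- The elements congruent to one modulo an ideal. -/
def oneAdd {D : Type u} [CommRing D] (I : Ideal D) : Submonoid D where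
  carrier := {b | b - 1 ∈ I}
  one_mem' := by simp
  mul_mem' := fun {a b} (ha : a - 1 ∈ I) (hb : b - 1 ∈ I) => by
    change a * b - 1 ∈ I
    rw [show a * b - 1 = a * (b - 1) + (a - 1) by ring]
    exact I.add_mem (I.mul_mem_left _ hb) ha

/-- The spectrum of the localisation at `1 + I`. -/
theorem range_comap {D : Type u} [CommRing D] (I : Ideal D) :
    Set.range (PrimeSpectrum.comap (algebraMap D (Localization (oneAdd I)))) =
      {x | ∃ z, z ∈ PrimeSpectrum.zeroLocus (I : Set D) ∧ x ⤳ z} := by
  ext p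
  rw [PrimeSpectrum.localization_comap_range (Localization (oneAdd I)) (oneAdd I)]
  constructor
  · intro (hp : Disjoint (oneAdd I : Set D) p.asIdeal)
    obtain ⟨m, hm, hle⟩ := Ideal.exists_le_maximal (p.asIdeal ⊔ I) fun htop => by
      obtain ⟨a, ha, i, hi, hai⟩ := Submodule.mem_sup.mp ((Ideal.eq_top_iff_one _).mp htop)
      refine Set.disjoint_left.mp hp (show a ∈ (oneAdd I : Set D) from ?_) ha
      change a - 1 ∈ I
      rw [show a - 1 = -i by linear_combination hai]
      exact I.neg_mem hi
    exact ⟨⟨m, hm.isPrime⟩, fun b hb => hle (Ideal.mem_sup_right hb),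
      (PrimeSpectrum.le_iff_specializes p ⟨m, hm.isPrime⟩).mp fun b hb => hle (Ideal.mem_sup_left hb)⟩
  · rintro ⟨p', hp', hs⟩
    refine Set.disjoint_left.mpr fun b (hb : b - 1 ∈ I) hbp => p'.2.ne_top ?_
    refine (Ideal.eq_top_iff_one _).mpr ?_
    have := p'.asIdeal.sub_mem ((PrimeSpectrum.le_iff_specializes p p').mpr hs hbp) (hp' hb)
    rwa [sub_sub_cancel] at this

variable {D Q R : CommRingCat.{u}} (q : D ⟶ Q) (f : Q ⟶ R)

/-- The localisation of `D` at `1 + ker (D → R)`. -/
abbrev L : CommRingCat.{u} := CommRingCat.of (Localization (oneAdd (RingHom.ker (q ≫ f).hom)))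

/-- The localisation map. -/
noncomputable abbrev g : D ⟶ L q f := CommRingCat.ofHom (algebraMap D _)

/-- The map to the quotient. -/
noncomputable def ψ : L q f ⟶ R :=
  CommRingCat.ofHom (IsLocalization.lift (M := oneAdd (RingHom.ker (q ≫ f).hom))
    (g := (q ≫ f).hom) fun s => by
      have h1 : (q ≫ f).hom ((s : D) - 1) = 0 := s.2
      rw [map_sub, map_one, sub_eq_zero] at h1
      rw [h1]
      exact isUnit_one)

lemma g_ψ : g q f ≫ ψ q f = q ≫ f :=
  CommRingCat.hom_ext (IsLocalization.lift_comp _)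

/-- A flat quotient is killed by an element congruent to one. -/
lemma exists_mul_eq_zero (hf : Function.Surjective f.hom) (hflat : f.hom.Flat) (x : Q)
    (hx : f.hom x = 0) : ∃ w : Q, f.hom w = 1 ∧ w * x = 0 := by
  letI : Algebra Q R := f.hom.toAlgebra
  haveI : Module.Flat Q R := hflat
  have h0 : ∑ i : Fin 1, (fun _ => x) i • (fun _ : Fin 1 => (1 : R)) i = 0 := by
    simp [Algebra.smul_def, RingHom.algebraMap_toAlgebra, hx]
  obtain ⟨k, a, y, hy, ha⟩ := Module.Flat.isTrivialRelation_of_sum_smul_eq_zero (R := Q) (M := R) h0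
  choose yl hyl using fun j => hf (y j)
  refine ⟨∑ j, a 0 j * yl j, ?_, (Finset.sum_mul _ _ _).trans (Finset.sum_eq_zero fun j _ => ?_)⟩
  · rw [map_sum]
    refine Eq.trans (Finset.sum_congr rfl fun j _ => ?_) (hy 0).symm
    rw [map_mul, hyl]
    rfl
  · have h2 := ha j
    simp only [Fin.sum_univ_one] at h2
    linear_combination (yl j) * h2

theorem isPushout (hq : Function.Surjective q.hom) (hf : Function.Surjective f.hom)
    (hflat : f.hom.Flat) : IsPushout q (g q f) f (ψ q f) := by
  let S := oneAdd (RingHom.ker (q ≫ f).hom)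
  have w : q ≫ f = g q f ≫ ψ q f := (g_ψ q f).symm
  have hdesc : ∀ s : PushoutCocone q (g q f), RingHom.ker f.hom ≤ RingHom.ker s.inl.hom :=
    fun s x hx => by
      obtain ⟨w, hw, hwx⟩ := exists_mul_eq_zero f hf hflat x hx
      obtain ⟨d, rfl⟩ := hq w
      have hd : d ∈ S := by
        change (q ≫ f).hom (d - 1) = 0
        rw [map_sub, map_one, sub_eq_zero]
        exact hw
      have hu : IsUnit (s.inl.hom (q.hom d)) := by
        have h1 : s.inl.hom (q.hom d) = s.inr.hom (algebraMap D (L q f) d) :=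
          congr($(s.condition).hom d)
        rw [h1]
        exact (IsLocalization.map_units (L q f) (⟨d, hd⟩ : S)).map s.inr.hom
      refine RingHom.mem_ker.mpr (hu.mul_right_eq_zero.mp ?_)
      rw [← map_mul, hwx, map_zero]
  have hcomp : ∀ (s : PushoutCocone q (g q f)),
      f ≫ CommRingCat.ofHom (RingHom.liftOfSurjective f.hom hf ⟨s.inl.hom, hdesc s⟩) = s.inl :=
    fun s => CommRingCat.hom_ext (RingHom.liftOfRightInverse_comp _ _ _ _)
  refine ⟨⟨w⟩, ⟨PushoutCocone.IsColimit.mk w
    (fun s => CommRingCat.ofHom (RingHom.liftOfSurjective f.hom hf ⟨s.inl.hom, hdesc s⟩))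
    hcomp (fun s => ?_) (fun s m hm _ => ?_)⟩⟩
  · refine CommRingCat.hom_ext (IsLocalization.ringHom_ext S (RingHom.ext fun d => ?_))
    have h0 := congrArg (· ≫ CommRingCat.ofHom (RingHom.liftOfSurjective f.hom hf ⟨s.inl.hom, hdesc s⟩))
      (g_ψ q f)
    have h1 := congr($(h0).hom d)
    refine h1.trans ?_
    exact (congr($(hcomp s).hom (q.hom d))).trans congr($(s.condition).hom d)
  · refine CommRingCat.hom_ext (RingHom.ext fun c => ?_)
    obtain ⟨b, rfl⟩ := hf c
    exact congr($(hm).hom b).trans congr($(hcomp s).hom b).symm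

end Groth.Agent.Lib.IndEtale.LocPushout
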